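import Cfsg.Agent.RC.D2
import Cfsg.Agent.KM.Si.Defs

/-!
# RC (S4576): Robinson's inequality from the strict height inequality (helper90)

* `rob_of_ctl`, `rob_of_frame`, `si_of : KM.Si.SI → SI`;
* `rob_or` : bad primes with one bad node; `row_g2`.
-/

set_option autoImplicit false
set_option linter.unusedSectionVars false

namespace Cfsg.Agent.RC.D2

open Cfsg Cfsg.Lie Cfsg.Agent.DL Cfsg.Agent.KZ.DatX Cfsg.Agent.Nodes.RGDChev Cfsg.Agent.ChevalleyStructure.NPerm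
open Cfsg.Agent.KM Cfsg.Agent.KM.Mu Cfsg.Agent.KM.Ex Cfsg.Agent.KM.Ht Cfsg.Agent.KM.Tor Matrix Subgroup
open Cfsg.Agent.TO.X.Cn (Pi1 PM pi1 pm_G2 exists_exp χ_exp mem_cen)
open Cfsg.Agent.Nodes.Reps Cfsg.Agent.Nodes.BNOf

section Dat

variable {p : ℕ} [Fact p.Prime] {k : Type} [Field k] [CharP k p] {Y : Type} [Group Y] {N : Type} [Fintype N]
  [DecidableEq N] {ρ : Y →* GL N k} {F : MulAut Y} {G : Subgroup Y} [IsAlgClosed k] {X : Datum p ρ F G}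
  {l f : ℕ} {M : Ideal AlgInt} {B : Set (IrrCharacter ↥(GF F G))} {D : Subgroup ↥(GF F G)}

/-- the centre of `D` in the ambient group -/
def ZY (D : Subgroup ↥(GF F G)) : Subgroup Y := D.map (GF F G).subtype ⊓ centralizer (D.map (GF F G).subtype : Set Y)

theorem ZY_eq : ZY D = (center D).map ((GF F G).subtype.comp D.subtype) := by
  ext y
  constructor
  · rintro ⟨⟨x, hx, rfl⟩, h⟩
    exact ⟨⟨x, hx⟩, mem_center_iff.2 fun g => Subtype.ext (Subtype.ext (h _ ⟨g, g.2, rfl⟩)), rfl⟩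
  · rintro ⟨x, hx, rfl⟩
    exact ⟨⟨x, x.2, rfl⟩, fun _ ⟨g, hg, e⟩ => e ▸ congrArg (fun z : D => ((z : GF F G) : Y)) (mem_center_iff.1 hx ⟨g, hg⟩)⟩

theorem card_ZY : Nat.card (ZY D) = Nat.card (center D) := by
  rw [ZY_eq, card_map_of_injective (Subtype.val_injective.comp Subtype.val_injective)]

theorem ZY_le : ZY D ≤ GF F G := inf_le_left.trans (map_subtype_le D)

variable [Finite ↥(GF F G)] [hl : Fact l.Prime]

theorem ZY_fin : (ZY D : Set Y).Finite := (Set.toFinite (GF F G : Set Y)).subset ZY_le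

theorem map_el (hD : IsPGroup l D) : El l (D.map (GF F G).subtype : Set Y) := fun _ ⟨z, hz, e⟩ =>
  let ⟨j, hj⟩ := hD ⟨z, hz⟩
  ⟨j, e ▸ congrArg (fun x : D => ((x : GF F G) : Y)) hj⟩

variable (hS : Si.SI) (hq : X.QS) (hM : IsPModular l M) (hp : l ≠ p) (hB : IsPBlock M B) (hD : IsDefectGroup l M B D)
  (ha : ¬ IsMulCommutative D)
include hS hq hM hp hB hD ha

/-- **Robinson's inequality from a controlled torus** -/
theorem rob_of_ctl {y : Y} (hy : y ∈ G) (hN : y⁻¹ * F y ∈ X.NN) {A : Subgroup Y}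
    (hA : Ctl (X.conj hy hN) (D.map (GF F G).subtype) A) (h : (Nat.card (center D)).factorization l ≤
      (Nat.card ↥(GF F (Z0 (X.conj hy hN) A))).factorization l) {χ : IrrCharacter ↥(GF F G)} (hχ : χ ∈ B) : Rob l D χ := by
  have h1 := fac_center (H592.Defect.isPGroup_of_isDefectGroup hD) ha
  have h2 := ht_le hq hl.out hp hM hB hD hy hN hA hχ
  have h3 := fun h => hS hq l M hM hp B D hB hD y hy hN A hA h χ hχ
  unfold Rob
  omega

theorem rob_of_frame {y : Y} (hy : y ∈ G) (hN : y⁻¹ * F y ∈ X.NN) (h1 : ZY D ≤ Z0 (X.conj hy hN) (ZY D))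
    (h2 : CC (X.conj hy hN) (ZY D)) {χ : IrrCharacter ↥(GF F G)} (hχ : χ ∈ B) : Rob l D χ := by
  refine rob_of_ctl hS hq hM hp hB hD ha hy hN (A := ZY D) ⟨inf_le_left, h1.trans (Z0_le_T _ _), fun g _ hg => ?_,
    fun d hd => h2 d (map_subtype_le D hd).1 fun z hz => (hz.2 d hd).symm⟩ ?_ hχ
  · have h3 := H644.mem_normalizer_centralizer hg
    exact mem_normalizer_iff.2 fun z => and_congr (mem_normalizer_iff.1 hg z) (mem_normalizer_iff.1 h3 z)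
  · have := X.amb.finite_GF (Z0 (X.conj hy hN) (ZY D))
    rw [← card_ZY]
    exact fac_le (card_dvd_of_le fun z hz => ⟨h1 hz, (ZY_le hz).2⟩) Nat.card_pos.ne'

end Dat

/-- **the glue** -/
theorem si_of (hS : Si.SI) : SI := fun {p _ k _ _ Y _ N _ _ ρ F G _} X hq l f M hl _ hM hp h hf hL _ B D hB hD ha χ hχ => by
  have := X.amb.finite_GF G
  have := Fact.mk hl
  obtain ⟨y, hy, hN, -, h1, h2⟩ := exists_frame h hl hp hf hL (Z := ZY D) ZY_fin (fun _ hz => (ZY_le hz).1)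
    (fun z hz => (show F z = z from (ZY_le hz).2).symm ▸ hz)
    (fun z hz => map_el (H592.Defect.isPGroup_of_isDefectGroup hD) z hz.1) fun a ha b hb => hb.2 a ha.1
  exact rob_of_frame hS hq hM hp hB hD ha hy hN h1 h2 hχ

section One

variable {p : ℕ} [Fact p.Prime] {k : Type} [Field k] [CharP k p] {Y : Type} [Group Y] {N : Type} [Fintype N]
  [DecidableEq N] {ρ : Y →* GL N k} {F : MulAut Y} {G : Subgroup Y} [IsAlgClosed k] {X : Datum p ρ F G}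
  {l f : ℕ} {t z : Y}

variable (X l) in
/-- isolated `l`-elements have order `l` -/
def I1 : Prop := ∀ (j : ℕ) (u : X.R → ℤ), (∀ v, (∀ a, X.Rt a → (l : ℤ) ^ j ∣ X.wt a ⬝ᵥ u → X.wt a ⬝ᵥ v = 0) → v = 0) →
  ∀ r, (l : ℤ) ^ j ∣ l * u r

theorem I1.pow (hl : l.Prime) (h : I1 X l) (ht : t ∈ X.T) {j : ℕ} (h1 : t ^ l ^ j = 1) (h2 : ¬ Ni X {t}) : t ^ l = 1 := by
  obtain ⟨ζ, u, -, h3, rfl⟩ := exists_exp X ht
  obtain ⟨i, -, hi⟩ := (Nat.dvd_prime_pow hl).1 (h3.trans (orderOf_dvd_of_pow_eq_one h1))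
  have h4 := h i u fun v hv => by_contra fun h5 => h2 ⟨v, h5, fun a ha => hv a ha.1 (by
    rw [← Nat.cast_pow, ← hi]
    exact (χ_exp X a u ζ).1 (ha.2 _ rfl))⟩
  rw [← map_pow, ← map_one X.τ]
  refine congrArg _ (funext fun r => ?_)
  rw [Pi.pow_apply, coch_apply, ← zpow_natCast, ← _root_.zpow_mul, Pi.one_apply, ← orderOf_dvd_iff_zpow_eq_one, hi,
    Nat.cast_pow, mul_comm]
  exact h4 r

variable (X l) in
/-- there is no plane of isolated elements -/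
def NoTwo : Prop := ∀ u u' : X.R → ℤ, ¬ ∀ i j : ℤ, ¬ ((l : ℤ) ∣ i ∧ (l : ℤ) ∣ j) → Is X l (i • u + j • u')

theorem NoTwo.elim (hT : NoTwo X l) (hl : l.Prime) (hp : l ≠ p) (hz : z ∈ X.T) (ht : t ∈ X.T) (h1 : z ^ l = 1) (h2 : z ≠ 1)
    (h3 : t ^ l = 1) (h4 : t ∉ zpowers z) (h5 : ∀ i j : ℤ, ¬ Ni X {z ^ i * t ^ j}) : False := by
  obtain ⟨ζ, hζ⟩ := exists_prim p k (n := l) fun h => hp ((Nat.prime_dvd_prime_iff_eq Fact.out hl).1 h).symm
  obtain ⟨u, rfl⟩ := exists_coch hζ hl hz h1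
  obtain ⟨u', rfl⟩ := exists_coch hζ hl ht h3
  have e : ∀ i j : ℤ, X.τ (coch u ζ) ^ i * X.τ (coch u' ζ) ^ j = X.τ (coch (i • u + j • u') ζ) := fun i j => by
    rw [coch_add, coch_zsmul, coch_zsmul, map_mul, map_zpow, map_zpow, map_zpow, map_zpow]
  refine hT u u' fun i j hij => ⟨fun v hv => by_contra fun h6 => h5 i j
    ⟨v, h6, fun b hb => hv b hb.1 (hζ ▸ (χ_exp X b _ ζ).1 (e i j ▸ hb.2 _ rfl))⟩, fun h6 => hij (indep hl h1 h2 h3 h4 ?_)⟩
  rw [e, ← map_one X.τ]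
  exact congrArg _ (funext fun r => orderOf_dvd_iff_zpow_eq_one.1 (hζ ▸ h6 r))

variable (h : Pi1 X f) (hl : l.Prime) (hp : l ≠ p) (hf : l.Coprime f)
include h hl hp hf

/-- a frame for a set with an element which is not isolated (`Ex.toral_of` with the centraliser) -/
theorem frame_of (hL : NL X l) {D : Subgroup Y} (hfin : (D : Set Y).Finite) (hG : D ≤ G) (hF : ∀ z ∈ D, F z ∈ D)
    (he : El l (D : Set Y)) (hc : ∀ a ∈ D, ∀ b ∈ D, a * b = b * a) (ht : t ∈ D) {g : Y} (hg : g ∈ G)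
    (h1 : g⁻¹ * t * g ∈ X.T) (h2 : Ni X {g⁻¹ * t * g}) : ∃ (y : Y) (hy : y ∈ G) (hN : y⁻¹ * F y ∈ X.NN),
      D ≤ Z0 (X.conj hy hN) D ∧ Gd (X.conj hy hN) D := by
  obtain ⟨j, hj⟩ := he t ht
  have e : ∀ a ∈ D, ∀ b ∈ D, g⁻¹ * a * g * (g⁻¹ * b * g) = g⁻¹ * b * g * (g⁻¹ * a * g) := fun a ha b hb =>
    calc _ = g⁻¹ * (a * b) * g := by group
      _ = _ := by rw [hc a ha b hb]; group
  obtain ⟨c, h3, h4, h5⟩ := (gd_single h hl hp hf hL h1 (conj_pow_eq hj) h2).conj_le h hl hp hf hL (Set.finite_singleton _)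
    (hfin.image fun z => g⁻¹ * z * g) (fun _ ⟨z, hz, e⟩ => e ▸ mul_mem (mul_mem (inv_mem hg) (hG hz)) hg)
    (fun _ ⟨z, hz, e⟩ => e ▸ (he z hz).imp fun _ => conj_pow_eq)
    (fun _ ⟨a, ha, e1⟩ _ ⟨b, hb, e2⟩ => e1 ▸ e2 ▸ e a ha b hb)
    fun _ ⟨a, ha, e1⟩ => e1 ▸ mem_centralizer_singleton_iff.2 (e a ha t ht)
  obtain ⟨y, hy, hN, h6, h7⟩ := SB.Exc.Max.exists_conj_le_T X hF (mul_mem hg h3) fun z hz => by
    rw [show (g * c)⁻¹ * z * (g * c) = c⁻¹ * (g⁻¹ * z * g) * c by group]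
    exact h5 _ ⟨z, hz, rfl⟩
  have h8 : y⁻¹ * t * y = g⁻¹ * t * g := by
    rw [h7 t ht, show (g * c)⁻¹ * t * (g * c) = c⁻¹ * (g⁻¹ * t * g * c) by group, h4 _ rfl, inv_mul_cancel_left]
  have h9 := (gd_single (h.conj hy hN) hl hp hf hL (h6 ht) hj
    (h2.imp fun v hv => ⟨hv.1, by rw [sz_conj hy hN (h8 ▸ h1), h8]; exact hv.2⟩)).union (h.conj hy hN) hl hp hf hL hfin h6 he
  rw [Set.union_eq_self_of_subset_right (Set.singleton_subset_iff.2 ht)] at h9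
  refine ⟨y, hy, hN, fun d hd => ?_, h9⟩
  obtain ⟨i, hi⟩ := he d hd
  simpa only [Set.insert_eq_of_mem hd] using (h9.insert (h.conj hy hN) hl hp hf hL (h6 hd) hi).2

/-- two commuting fixed elements of order `l` lie in a stable torus -/
theorem frame_two (hz : z ∈ GF F G) (ht : t ∈ GF F G) (z3 : z ^ l = 1) (t3 : t ^ l = 1) (hc : t * z = z * t) :
    ∃ (y : Y) (hy : y ∈ G) (hN : y⁻¹ * F y ∈ X.NN), ({z, t} : Set Y) ⊆ (X.conj hy hN).T := by
  obtain ⟨g, hg, h2⟩ := toral_cen (X := X) (Set.empty_subset _) Set.finite_empty (cc_empty _ hz.1 fun _ h => h.elim)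
    (not_dvd_ord hl hp (j := 1) (by rwa [pow_one]))
  replace hg := X.cen_le_G _ hg
  obtain ⟨c, hc1, h3⟩ := toral_cen (Set.singleton_subset_iff.2 h2) (Set.finite_singleton _) (y := g⁻¹ * t * g)
    (mem_cen h h2 (conj_pow_eq z3) hf (mul_mem (mul_mem (inv_mem hg) ht.1) hg) (
      calc _ = g⁻¹ * (t * z) * g := by group
        _ = _ := by rw [hc]; group)) (not_dvd_ord hl hp (j := 1) (by rw [pow_one]; exact conj_pow_eq t3))
  obtain ⟨y, hy, hN, h4, -⟩ := SB.Exc.Max.exists_conj_le_T X (Z := {z, t}) (by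
      rintro _ (rfl | rfl)
      · exact .inl hz.2
      · exact .inr ht.2) (mul_mem hg (X.cen_le_G _ hc1)) (by
      rintro x (e | e) <;> rw [e]
      · rwa [show (g * c)⁻¹ * z * (g * c) = c⁻¹ * (g⁻¹ * z * g * c) by group,
          X.cen_le_centralizer (Set.singleton_subset_iff.2 h2) hc1 _ rfl, inv_mul_cancel_left]
      · rwa [show (g * c)⁻¹ * t * (g * c) = c⁻¹ * (g⁻¹ * t * g) * c by group])
  exact ⟨y, hy, hN, h4⟩

omit h hl hp hf in
variable (X l) in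
/-- the remaining configuration: a plane of isolated elements which is centralised by `D` -/
def Pl (D : Subgroup Y) : Prop := ∃ (y : Y) (hy : y ∈ G) (hN : y⁻¹ * F y ∈ X.NN) (z t : Y), z ∈ D ∧ t ∈ D ∧
  (∀ d ∈ D, d * z = z * d ∧ d * t = t * d) ∧ z ∈ (X.conj hy hN).T ∧ t ∈ (X.conj hy hN).T ∧ z ^ l = 1 ∧ z ≠ 1 ∧ t ^ l = 1 ∧
  t ∉ zpowers z ∧ ∀ i j : ℤ, ¬ Ni (X.conj hy hN) {z ^ i * t ^ j}

/-- **Bad primes of the first type.** -/
theorem rob_or [Finite ↥(GF F G)] (hL : NL X l) (hI : I1 X l) (hS : Si.SI) (hq : X.QS) {M : Ideal AlgInt}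
    {B : Set (IrrCharacter ↥(GF F G))} {D : Subgroup ↥(GF F G)} (hM : IsPModular l M) (hB : IsPBlock M B)
    (hD : IsDefectGroup l M B D) (ha : ¬ IsMulCommutative D) {χ : IrrCharacter ↥(GF F G)} (hχ : χ ∈ B) :
    Rob l D χ ∨ Pl X l (D.map (GF F G).subtype) := by
  have := Fact.mk hl
  have hP := H592.Defect.isPGroup_of_isDefectGroup hD
  have he : El l (ZY D : Set Y) := fun z hz => map_el hP z hz.1
  refine or_iff_not_imp_left.2 fun hn => ?_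
  have h1 : ∀ t ∈ ZY D, ∀ g ∈ G, g⁻¹ * t * g ∈ X.T → ¬ Ni X {g⁻¹ * t * g} := fun t ht g hg h1 h2 => by
    obtain ⟨y, hy, hN, h3, h4⟩ := frame_of h hl hp hf hL ZY_fin (fun _ hz => (ZY_le hz).1)
      (fun z hz => (show F z = z from (ZY_le hz).2).symm ▸ hz) he (fun a ha b hb => hb.2 a ha.1) ht hg h1 h2
    exact hn (rob_of_frame hS hq hM hp hB hD ha hy hN h3 h4.cc hχ)
  have h2 : ∀ t ∈ ZY D, t ^ l = 1 := fun t ht => by
    obtain ⟨j, hj⟩ := he t ht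
    obtain ⟨g, hg, h2⟩ := toral_cen (X := X) (Set.empty_subset _) Set.finite_empty
      (cc_empty _ (ZY_le ht).1 fun _ h => h.elim) (not_dvd_ord hl hp hj)
    have h3 := conj_pow_eq (g := g⁻¹) (hI.pow hl h2 (conj_pow_eq hj) (h1 t ht g (X.cen_le_G _ hg) h2))
    rwa [show g⁻¹⁻¹ * (g⁻¹ * t * g) * g⁻¹ = t by group] at h3
  have := (ZY_fin (D := D)).to_subtype
  have h3 : l < Nat.card (ZY D) := by
    by_contra h3
    refine hn (rob_small hM hB hD ha hχ (le_trans ?_ (Nat.le_add_left _ _)))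
    rw [← card_ZY]
    exact Nat.factorization_le_of_le_pow (by rw [pow_one]; omega)
  have := Finite.one_lt_card_iff_nontrivial.1 (hl.one_lt.trans h3)
  obtain ⟨z, hz⟩ := exists_ne (1 : ZY D)
  have z2 : (z : Y) ≠ 1 := fun e => hz (Subtype.ext e)
  obtain ⟨t, ht, t2⟩ := Set.not_subset.1 fun e : ZY D ≤ zpowers (z : Y) => by
    have := finite_zpowers.2 (isOfFinOrder_iff_pow_eq_one.2 ⟨l, hl.pos, h2 z z.2⟩) |>.to_subtype
    have h4 := card_le_of_le e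
    rw [Nat.card_zpowers, orderOf_eq_prime (h2 z z.2) z2] at h4
    omega
  obtain ⟨y, hy, hN, h4⟩ := frame_two h hl hp hf (ZY_le z.2) (ZY_le ht) (h2 z z.2) (h2 t ht) (z.2.2 t ht.1)
  refine ⟨y, hy, hN, z, t, z.2.1, ht.1, fun d hd => ⟨z.2.2 d hd, ht.2 d hd⟩, h4 (.inl rfl), h4 (.inr rfl), h2 z z.2, z2,
    h2 t ht, t2, fun i j e => ?_⟩
  have h5 := mem_cj.1 (mul_mem (zpow_mem (h4 (.inl rfl)) i) (zpow_mem (h4 (.inr rfl)) j))
  exact h1 _ (mul_mem (zpow_mem z.2 i) (zpow_mem ht j)) y hy h5 (e.imp fun v hv => ⟨hv.1, sz_conj hy hN h5 ▸ hv.2⟩)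

end One

section Fr

open Finset Cfsg.Agent.Tits.Roots Cfsg.Agent.ChevalleyStructure.CoxeterGeom

variable {C : ChevalleyDatum} {n : ℕ} {M : CoxeterMatrix (Fin n)} {hp : IsType C n M} {r : ℕ} [Fact r.Prime] {k : Type}
  [Field k] [CharP k r] [IsAlgClosed k] {l : ℕ} {i : Fin n}

theorem i1_of {Mx : Matrix (Fin n) (Fin n) ℤ} (X : XF hp r k Mx) (hl : l.Prime) (hB : Bad C n l i) : I1 X.D l := by
  intro j (u : Fin n → ℤ) h (m : Fin n)
  rcases kac_one hp hl hB j u with ⟨c, h1, v, h2⟩ | ⟨w, h1⟩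
  · refine (h1.symm.dvd_of_dvd_mul_left ⟨-v m, ?_⟩).mul_left _
    have : c * u m + l ^ j * v m = 0 := congrFun (h _ fun a ha => h2 a ((rt_rr X a).1 ha)) m
    linear_combination this
  · have h2 := (h1 ((l : ℤ) • rp hp w⁻¹ (sr m))).2 (dvd_mul_right _ _)
    rwa [show rp hp w ((l : ℤ) • rp hp w⁻¹ (sr m)) = (l : ℤ) • sr m from (map_smul _ _ _).trans
      (congrArg _ (rep_apply_inv ..)), smul_dotProduct, sr_dot] at h2

theorem noTwo_G2 {Mx : Matrix (Fin 2) (Fin 2) ℤ} (X : XF hpG2 r k Mx) : NoTwo X.D 3 := fun (u u' : Fin 2 → ℤ) h => by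
  have h1 : ∀ a b c d : ZMod 3, ∃ q : ZMod 3 × ZMod 3, q ≠ 0 ∧ #{r : Fin chevG2.nroots |
      q.1 * (vec chevG2 2 r 0 * a + vec chevG2 2 r 1 * b) + q.2 * (vec chevG2 2 r 0 * c + vec chevG2 2 r 1 * d) = 0} ≠
      #{r : Fin chevG2.nroots | ((3 : ℕ) : ℤ) ∣ vec chevG2 2 r 0} := by decide +kernel
  obtain ⟨q, h2, h3⟩ := h1 (u 0) (u 1) (u' 0) (u' 1)
  refine h3 (Eq.trans ?_ (twoC_cast (u := u) (u' := u') (fun a b e => card_is hpG2 Nat.prime_three bad_G2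
    (fun v hv => (h a b e).1 v fun a ha => hv a ((rt_rr X a).1 ha)) (h a b e).2) q h2))
  simp only [dotProduct, Fin.sum_univ_two, Int.cast_add, Int.cast_mul]

end Fr

/-- **`G₂(q)`** -/
theorem row_g2 (hS : Si.SI) : RRowFor CG2 := fun l hl h2 S _ _ _ _ h => by
  rcases odd_cases h2 with rfl | h5
  · obtain ⟨r, e, _, hr, -, -, k, _, _, _, X, -, ⟨s⟩⟩ := Nt.row_G2 h
    obtain ⟨F, _, _, h3, h4, ⟨i⟩⟩ := h
    have h5 := not_dvd_card h3
    obtain h7 | h7 : Fintype.card F = 4 ∨ 5 ≤ Fintype.card F := by omega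
    · exact rrow_of_card (by rw [Nat.card_congr i.toEquiv, S1059.result h7]; norm_num)
    have := X.finite
    refine rrow_zd ((TO.X.zd_G2 h7).congr i) (rk_xs s not_dvd_one' fun M hM km => rw_of_rcg hM (km _)
      fun B D hB hD ha χ hχ => (rob_or (pi1 X pm_G2) hl.out hr (Nat.coprime_one_right 3) (nl_of X hl.out bad_G2)
        (i1_of X hl.out bad_G2) hS X.D_qs hM hB hD ha hχ).resolve_right ?_)
    rintro ⟨y, hy, hN, z, t, -, -, -, a1, a2, a3, a4, a5, a6, a7⟩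
    exact NoTwo.elim (X := X.D.conj hy hN) (noTwo_G2 X) hl.out hr a1 a2 a3 a4 a5 a6 a7
  · exact g2_ge (si_of hS) h5 h

end Cfsg.Agent.RC.D2
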