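import Cfsg.Agent.RC.D2
import Cfsg.Agent.KM.Sc.Dat2
import Cfsg.Agent.KM.Sc.O82

/-!
# RC (S4576): the symplectic and orthogonal rows from `SI` (helper12)

* `psp_of`, `row_odd`, `plus_of`, `row_minus`; the covers of `Sp₆(2)` and `Ω₈⁺(2)` at the prime three are hypotheses.
-/

set_option autoImplicit false
set_option linter.unusedSectionVars false
set_option linter.unusedVariables false
set_option maxHeartbeats 400000

namespace Cfsg.Agent.RC.D1

open Cfsg Cfsg.Agent.DL Cfsg.Agent.KM Cfsg.Agent.KM.Mu Cfsg.Agent.RC.D2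

section BD

open Cfsg.Agent.LangThm Matrix Sum Cfsg.Agent.TwoF.DC Cfsg.Agent.TwoF.DC.TC Cfsg.Agent.TwoF.DC.TBD
  Cfsg.Agent.TwoF.DC.TBD.Cl Cfsg.Agent.KM.BD

variable (hI : SI)
include hI

theorem row_of_sc {p : ℕ} [Fact p.Prime] {k : Type} [Field k] [CharP k p] {Y : Type} [Group Y]
    {N : Type} [Fintype N] [DecidableEq N] {ρ : Y →* GL N k} {F : MulAut Y} {G : Subgroup Y} [IsAlgClosed k]
    {X : Datum p ρ F G} {S : Type} [Group S] (s : Sc X S) {l : ℕ} [hl : Fact l.Prime] (h0 : l ≠ 2) (hp : l ≠ p)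
    (hL : Tor.Lev X l) {A : Type} [CommGroup A] (hA : HasSchurMultiplier S A) (h1 : ¬ p ∣ Nat.card A)
    (h2 : ¬ l ∣ Nat.card A) : RRow l S :=
  have := X.amb.finite_GF G
  rrow_sc s.π (fun h => h2 (h.trans (H95.StemCover.card_ker_dvd hA s.perf s.π s.surj s.ker.le))) s.cov hA h1
    (hI.rk s.qs h0 hp s.pi1 (Nat.coprime_one_right l) hL)

theorem row_cd {m : ℕ} {Φ : Type} [Fintype Φ] [DecidableEq Φ] (C : CD m Φ)
    (h : ∀ w, ∃ v, C.X.dual.E v = (2 : ℤ) • w) {p : ℕ} [Fact p.Prime] {k : Type} [Field k] [IsAlgClosed k] [CharP k p]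
    (lf : ∀ a : k, ∃ m, 0 < m ∧ a ^ p ^ m = a) (h2 : (∃ b, C.ib b = inl ()) → (2 : k) ≠ 0)
    (P : Tws (C.rdat k p h2)) (hP : P.Fr = C.fr (frobenius k p)) (hF : (C.rdat k p h2).Fa) {S : Type} [Group S]
    (hS : IsSimpleGroup S) (hn : ¬ IsMulCommutative S) (hπ : PiP P S) {A : Type} [CommGroup A]
    (hA : HasSchurMultiplier S A) (h1 : ¬ p ∣ Nat.card A) (h4 : Nat.card A ∣ 4)
    (hd : p ≠ 2 → Nat.card A ≤ Nat.card P.Zc) {l : ℕ} [hl : Fact l.Prime] (hp : l ≠ p) (hl2 : l ≠ 2) : RRow l S := by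
  obtain ⟨π, k1, k2⟩ := hπ
  obtain ⟨d, a, k3, k4, k5⟩ : ∃ d a, Nat.card A ∣ d * p ^ a ∧ 0 < d ∧ d ≤ Nat.card P.Zc := by
    by_cases e : p = 2
    · have := TE.finite_Zc P
      exact ⟨1, 2, by rw [e]; exact h4, one_pos, Nat.card_pos⟩
    · exact ⟨_, 0, by simp, Nat.pos_of_dvd_of_pos h4 four_pos, hd e⟩
  obtain ⟨F, X, ⟨s⟩, hL⟩ := Dat.boxDat p _ _ k _ _ P hF lf _ (rho C k) (rho_inj C k) (fun g => by rw [hP]; exact rho_fr C p g)
    (rho_poly C p h2) ⟨_, rho_diag C p h2⟩ S hS hn π k1 k2 A d a hA k3 k4 k5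
  exact row_of_sc hI s hl2 hp (hL l (levR C h hl.out hl2)) hA h1 (not_dvd_four hl.out hl2 h4)

/-- **the orthogonal groups in odd dimension** -/
theorem row_odd : RRowFor COdd := by
  rintro l hl hl2 S _ _ _ hn ⟨F, _, _, m, hlF, hm, hodd, ⟨e⟩⟩
  obtain ⟨p, hc⟩ := CharP.exists F
  obtain ⟨f, hp, hq⟩ := FiniteField.card F p
  have : Fact p.Prime := ⟨hp⟩
  have := Finite.of_equiv _ e.toEquiv
  refine RRow.of_equiv e ?_
  have hlp := ne_char (p := p) hlF
  by_cases h5 : m = 3 ∧ Fintype.card F = 3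
  · obtain ⟨rfl, h5⟩ := h5
    obtain rfl : p = 3 := (Nat.prime_dvd_prime_iff_eq hp Nat.prime_three).1 (h5 ▸ hq ▸ dvd_pow_self p f.pos.ne')
    exact rrow_cube (small_O7 h5 hl.out hl2 hlp)
  have hp2 : p ≠ 2 := by
    rintro rfl
    rw [hq, Nat.odd_pow_iff f.pos.ne'] at hodd
    exact absurd hodd (by decide)
  let k := AlgebraicClosure F
  have h2 : (2 : k) ≠ 0 := fun e =>
    hp2 ((Nat.prime_dvd_prime_iff_eq hp Nat.prime_two).1 ((CharP.cast_eq_zero_iff k p 2).1 (by exact_mod_cast e)))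
  let D := (cB m).rdat k p fun _ => h2
  let P := tw0 D f f.pos ((cB m).fr (frobenius k p)) ((cB m).fr_z p _ _) ((cB m).fr_y p _ _)
  have hF : D.Fa := TE.fa_of_faith (boxB p hp2 m hm k _ D rfl).faith ⟨0, by omega⟩
  have hv : Vec D (fun b => b.1.1) ibB (cB m).th := by
    rw [show (fun b : PR m => b.1.1) = fun b => Sum.inl ((cB m).ia b) from funext fun b => (inl_ix b.lt).symm]
    exact (cB m).vec p _
  have hπ := (boxPi p m k _ F (algebraMap F k) _).1 hp2 hm D rfl hF hv P rfl hq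
  have hA := S2094.result rfl hodd m hm h5
  refine row_cd hI (cB m) (two_B m) (lf_closure F p) _ P rfl hF e.symm.isSimpleGroup (noncomm_of e hn) hπ hA
    (by rw [card_cyc, Nat.prime_dvd_prime_iff_eq hp Nat.prime_two]; exact hp2) (by rw [card_cyc]; decide)
    (fun _ => ?_) hlp hl2
  rw [card_cyc]
  refine TE.le_card_Zc P (m := 2) Nat.prime_two (Pi.single ⟨m - 1, by omega⟩ 1) ⟨m - 1, by omega⟩ (by simp) (fun i => ?_)
    fun _ => ⟨fun e => hp2 ((Nat.prime_dvd_prime_iff_eq hp Nat.prime_two).1 e), fun i => ?_⟩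
  · rw [Finset.sum_eq_single ⟨m - 1, by omega⟩ (fun j _ hj => by simp [hj]) (by simp)]
    refine Dvd.dvd.mul_left ?_ _
    show _ ∣ rv (zc _) ⬝ᵥ _
    rw [rv_zc_dot, dif_neg (by simp only; omega)]
    exact dvd_mul_right _ _
  · rw [show P.sι i = i from rfl]
    conv_lhs => rw [← mul_one (Pi.single (M := fun _ => ℕ) _ _ _)]
    exact Nat.ModEq.mul_left _ (Nat.odd_iff.1 (hq ▸ hodd)).symm

/-- **the orthogonal groups of plus type** -/
theorem plus_of (h8 : ∀ (F : Type) [Field F] [Fintype F], Fintype.card F = 2 → RRow 3 (POmega F (quadFormPlus 4 F))) :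
    RRowFor CPlus := by
  rintro l hl hl2 S _ _ _ hn ⟨F, _, _, m, hlF, hm, ⟨e⟩⟩
  obtain ⟨p, hc⟩ := CharP.exists F
  obtain ⟨f, hp, hq⟩ := FiniteField.card F p
  have : Fact p.Prime := ⟨hp⟩
  have := Finite.of_equiv _ e.toEquiv
  refine RRow.of_equiv e ?_
  have hlp := ne_char (p := p) hlF
  by_cases h5 : m = 4 ∧ Fintype.card F = 2
  · obtain ⟨rfl, h5⟩ := h5
    by_cases h3 : l = 3
    · subst h3
      exact h8 F h5
    · exact rrow_cube (small_O8 h5 hl.out hl2 h3)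
  have : Fact (2 ≤ m) := ⟨by omega⟩
  let k := AlgebraicClosure F
  let P := tD m k p f f.pos 1
  have hF : (dD m k p).Fa := TE.fa_of_faith (faithD (by omega) p k) (fst m)
  have hπ := ((boxPi p m k _ F (algebraMap F k) _).2 hm _ rfl hF vec_D P hq).1 rfl
  obtain ⟨A, _, hA, k1, k2, k3⟩ := mult_plus hp (hq ▸ dvd_pow_self p f.pos.ne') hm h5
  refine row_cd hI (cD m) (two_D m) (lf_closure F p) _ P rfl hF e.symm.isSimpleGroup (noncomm_of e hn) hπ hA k1 k2
    (fun h2 => ?_) hlp hl2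
  obtain ⟨z2, z4⟩ := Nm.card_Zc (D := dD m k p) rfl P h2 (by omega) (Or.inl rfl)
  by_cases h7 : m % 2 = 1 ∧ Fintype.card F % 4 = 3
  · exact (Nat.le_of_dvd two_pos (k3 h7)).trans z2
  · exact (Nat.le_of_dvd four_pos k2).trans (z4 (Or.inl ⟨rfl, by rw [hq] at h7; exact h7⟩))

/-- **the orthogonal groups of minus type** -/
theorem row_minus : RRowFor CMinus := by
  rintro l hl hl2 S _ _ _ hn ⟨F, _, _, m, a, b, hlF, hm, hab, ⟨e⟩⟩
  obtain ⟨p, hc⟩ := CharP.exists F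
  obtain ⟨f, hp, hq⟩ := FiniteField.card F p
  have : Fact p.Prime := ⟨hp⟩
  refine RRow.of_equiv e ?_
  have hlp := ne_char (p := p) hlF
  have : Fact (2 ≤ m) := ⟨by omega⟩
  let k := AlgebraicClosure F
  let P := tD m k p f f.pos ⟨gN m, Subgroup.mem_zpowers _⟩
  have hF : (dD m k p).Fa := TE.fa_of_faith (faithD (by omega) p k) (fst m)
  have hπ := ((boxPi p m k _ F (algebraMap F k) _).2 hm _ rfl hF vec_D P hq).2 rfl a b hab
  have hA := S2099.result rfl m hm a b hab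
  refine row_cd hI (cD m) (two_D m) (lf_closure F p) _ P rfl hF e.symm.isSimpleGroup (noncomm_of e hn) hπ hA
    (by rw [card_cyc]; exact not_dvd_add hp (hq ▸ dvd_pow_self p f.pos.ne') (by omega) 4)
    (by rw [card_cyc]; exact Nat.gcd_dvd_left _ _) (fun h2 => ?_) hlp hl2
  obtain ⟨z2, z4⟩ := Nm.card_Zc (D := dD m k p) rfl P h2 (by omega) (Or.inr rfl)
  rw [card_cyc, hq]
  by_cases h7 : m % 2 = 1 ∧ p ^ (f : ℕ) % 4 = 3
  · exact (Nat.le_of_dvd four_pos (Nat.gcd_dvd_left _ _)).trans (z4 (Or.inr ⟨rfl, h7⟩))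
  · have h3 := Nm.pow_mod (m := m) (Nat.odd_iff.1 (hp.odd_of_ne_two h2).pow : p ^ (f : ℕ) % 2 = 1)
    rw [if_neg h7] at h3
    exact (Nat.le_of_dvd two_pos (Nm.gcd_dvd_two (by omega))).trans z2

end BD

section C

open Cfsg.Agent.KZ.Dat Cfsg.Agent.Nodes.TypeC Cfsg.Agent.ODD.C2 Matrix Cfsg.Agent.KM.ScC

/-- **the row of the symplectic groups, `l` odd** -/
theorem psp_of (hI : SI)
    (h62 : ∀ (F : Type) [Field F] [Fintype F], Fintype.card F = 2 → RRow 3 (PSp 3 F)) : RRowFor CPsp := by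
  rintro l hl h2 S _ _ _ - ⟨F, _, _, m, hF, hm, hm2, ⟨e⟩⟩
  refine RRow.of_equiv e ?_
  by_cases h : m = 3 ∧ Fintype.card F = 2
  · obtain ⟨rfl, h⟩ := h
    by_cases h3 : l = 3
    · subst h3
      exact h62 F h
    have h4 := H356.KillPSp.card (F := F) (m := 3) (by norm_num)
    rw [h] at h4
    have h5 : Nat.card (PSp 3 F) = 2 ^ 9 * (3 ^ 4 * (5 * 7)) := by
      simp only [Finset.prod_range_succ, Finset.prod_range_zero] at h4
      norm_num at h4 ⊢
      exact h4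
    have : Finite (PSp 3 F) := Nat.finite_of_card_ne_zero (by rw [h5]; norm_num)
    refine rrow_cube fun h6 => ?_
    rw [h5] at h6
    have h7 : l ^ 3 ∣ 5 * 7 := ((Nat.coprime_primes hl.out Nat.prime_three).2 h3).pow 3 4 |>.dvd_of_dvd_mul_left
      ((((Nat.coprime_primes hl.out Nat.prime_two).2 h2).pow 3 9).dvd_of_dvd_mul_left h6)
    have h8 := Nat.le_of_dvd (by norm_num) h7
    have h9 : l < 4 := lt_of_pow_lt_pow_left₀ 3 (by norm_num) (by omega)
    have := hl.out.two_le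
    omega
  obtain ⟨p, hp⟩ := CharP.exists F
  have : Fact p.Prime := ⟨CharP.char_is_prime F p⟩
  obtain ⟨k, _, _, _, hk, e', he, f, hq⟩ := hasC p F
  have hlp : l ≠ p := fun h => hF (h ▸ CharP.cast_eq_zero F p)
  have := (datC m hk he).amb.finite_GF (GC m k)
  let π : GF (FC m k p e') (GC m k) →* PSp m F := (QuotientGroup.mk' _).comp (eqvC f hq).symm.toMonoidHom
  have h1 : π.ker = (Subgroup.center _).map (eqvC f hq).toMonoidHom := by
    rw [← MonoidHom.comap_ker, QuotientGroup.ker_mk', Subgroup.map_equiv_eq_comap_symm']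
  have h3 : Nat.card π.ker = Nat.gcd 2 (Fintype.card F - 1) := by
    rw [h1, Subgroup.card_map_of_injective (eqvC f hq).injective, LieClassical.SympCenter.card_center (by omega)]
  refine rrow_mult π ((QuotientGroup.mk'_surjective _).comp (eqvC f hq).symm.surjective) ?_ ?_ ?_
    (S2092.result rfl m hm hm2 h) ?_ (hI.rk (datC_qs hk he) h2 hlp (pi1C hk he) (Nat.coprime_one_right l)
      (levC hk he (hl.out.odd_of_ne_two h2)))
  · rw [h1]
    rintro _ ⟨z, hz, rfl⟩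
    refine Subgroup.mem_center_iff.2 fun g => ?_
    obtain ⟨g, rfl⟩ := (eqvC f hq).surjective g
    rw [MulEquiv.coe_toMonoidHom, ← map_mul, ← map_mul, Subgroup.mem_center_iff.1 hz]
  · have h4 := S0269.result (F := F) m (by omega)
    rw [commutator_def, ← Subgroup.map_top_of_surjective (eqvC f hq).toMonoidHom (eqvC f hq).surjective, ← Subgroup.map_commutator,
      ← commutator_def, h4]
  · rw [h3]
    exact fun h => h2 ((Nat.prime_dvd_prime_iff_eq hl.out Nat.prime_two).1 (h.trans (Nat.gcd_dvd_left _ _)))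
  · rw [h3, Nat.card_congr Multiplicative.toAdd, Nat.card_zmod]

end C

end Cfsg.Agent.RC.D1
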