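import Cfsg.Agent.RC.Defs
import Cfsg.Agent.KM.Mu.Small
import Cfsg.Agent.H732.VZ.Div
import Cfsg.Agent.H604.OZ.Sec

/-!
# RC (S4576): three statements of block theory (helper25)

`boxVal : BoxVal`, `boxCT : BoxCT`, `boxCnt3 : BoxCnt3`.
-/

set_option autoImplicit false
set_option linter.unusedSectionVars false

open Cfsg
open scoped ComplexConjugate

namespace Cfsg.Agent.RC.Blk

open Cfsg.Agent Cfsg.Agent.Characters Cfsg.Agent.Blocks Cfsg.Agent.Blocks.LocalRing Cfsg.Agent.KM.Mu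

variable {p : ℕ} [Fact p.Prime] {M : Ideal AlgInt} {G : Type} [Group G] [Finite G]
  {B : Set (IrrCharacter G)} {D : Subgroup G}

/-- the degree, the height and the defect -/
theorem nu_add (hM : IsPModular p M) (hB : IsPBlock M B) (hD : IsDefectGroup p M B D) {χ : IrrCharacter G}
    (hχ : χ ∈ B) : (charDegree (χ : G → ℂ)).factorization p + (Nat.card D).factorization p =
      (Nat.card G).factorization p + blockHeight p B (χ : G → ℂ) := by
  have h1 := df_height hM hB hD hχ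
  have h2 := df_add (p := p) χ
  change _ + (charDegree (χ : G → ℂ)).factorization p = _ at h2
  omega

/-- the values at the elements centralizing a defect group are divisible by `p ^ height` -/
theorem int_div (hM : IsPModular p M) (hB : IsPBlock M B) (hD : IsDefectGroup p M B D) {χ : IrrCharacter G}
    (hχ : χ ∈ B) {g : G} (hg : D ≤ Subgroup.centralizer ({g} : Set G)) :
    IsIntegral ℤ ((χ : G → ℂ) g / (p : ℂ) ^ blockHeight p B (χ : G → ℂ)) := by
  have hp : p.Prime := Fact.out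
  set h := blockHeight p B (χ : G → ℂ) with hh
  set C := Subgroup.centralizer ({g} : Set G) with hC
  have h1 := nu_add hM hB hD hχ
  have h2 := fac_mono (p := p) hg
  have h3 := fac_mul (p := p) C.card_mul_index Nat.card_pos.ne'
  have hi : C.index ≠ 0 := Subgroup.index_ne_zero_of_finite
  have hn := (Basic.charDegree_pos χ.2).ne'
  obtain ⟨s, u, hu, hsu⟩ := Nat.exists_eq_pow_mul_and_not_dvd hi p hp.ne_one
  have hu0 : u ≠ 0 := by rintro rfl; exact hu (dvd_zero p)
  have h4 : C.index.factorization p = s := by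
    rw [hsu, Nat.factorization_mul (pow_ne_zero _ hp.ne_zero) hu0, Finsupp.add_apply, Nat.factorization_pow_self hp,
      Nat.factorization_eq_zero_of_not_dvd hu, add_zero]
  obtain ⟨w, hw⟩ : p ^ (s + h) ∣ charDegree (χ : G → ℂ) :=
    (hp.pow_dvd_iff_le_factorization hn).2 (by omega)
  have hp0 : (p : ℂ) ≠ 0 := by exact_mod_cast hp.ne_zero
  have hw0 : (w : ℂ) ≠ 0 := by
    have : w ≠ 0 := by rintro rfl; exact hn (by rw [hw, mul_zero])
    exact_mod_cast this
  have h5 := HeightZero.isIntegral_centralChar χ g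
  rw [Basic.centralChar_def, Basic.irr_one_eq_charDegree χ.2, ← hC, hsu, hw] at h5
  have h6 : IsIntegral ℤ ((u : ℂ) * ((χ : G → ℂ) g / (p : ℂ) ^ h)) := by
    have h9 := h5.mul (isIntegral_natCast (R := ℤ) (B := ℂ) w)
    rwa [show ((p ^ s * u : ℕ) : ℂ) * (χ : G → ℂ) g / ((p ^ (s + h) * w : ℕ) : ℂ) * w =
      (u : ℂ) * ((χ : G → ℂ) g / (p : ℂ) ^ h) by
        push_cast
        rw [pow_add]
        field_simp] at h9
  have h7 : IsIntegral ℤ ((p : ℂ) ^ h * ((χ : G → ℂ) g / (p : ℂ) ^ h)) := by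
    rw [mul_div_cancel₀ _ (pow_ne_zero _ hp0)]
    exact DefectCard.isIntegral_irr χ.2 g
  have h8 : IsCoprime (u : ℤ) ((p : ℤ) ^ h) := by
    have := Nat.isCoprime_iff_coprime.2 (((Nat.Prime.coprime_iff_not_dvd hp).2 hu).symm.pow_right h)
    exact_mod_cast this
  obtain ⟨a, b, hab⟩ := h8
  have hab' : (a : ℂ) * u + b * (p : ℂ) ^ h = 1 := by exact_mod_cast hab
  have h9 := ((isIntegral_intCast (R := ℤ) (B := ℂ) a).mul h6).add ((isIntegral_intCast (R := ℤ) (B := ℂ) b).mul h7)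
  rwa [← mul_assoc, ← mul_assoc, ← add_mul, hab', one_mul] at h9

theorem ord_of_mem (hD : IsDefectGroup p M B D) {z : G} (hz : z ∈ D) : ∃ k, orderOf z = p ^ k := by
  obtain ⟨k, hk⟩ := IsPGroup.iff_orderOf.1 (Basic.isPGroup_of_isDefectGroup hD) ⟨z, hz⟩
  exact ⟨k, by rw [← hk]; exact Subgroup.orderOf_coe (⟨z, hz⟩ : D)⟩

theorem val (hM : IsPModular p M) (hB : IsPBlock M B) (hD : IsDefectGroup p M B D) :
    ∃ y : G, ¬ p ∣ orderOf y ∧ Blocks.Basic.IsSylowCentralizer p y D ∧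
      ∀ χ ∈ B, ∀ z ∈ ZD D, (χ : G → ℂ) (z * y) ≠ 0 ∧
        IsIntegral ℤ ((χ : G → ℂ) (z * y) / (p : ℂ) ^ blockHeight p B (χ : G → ℂ)) := by
  obtain ⟨g, hg, hS⟩ := Basic.isDefectGroup_iff.1 hD
  have hc := Basic.le_centralizer_of_isSylowCentralizer hS
  refine ⟨g, H614.Spin.isPRegular_of_isDefectClass hM hB hg, hS, fun χ hχ z hz => ⟨fun h0 => ?_, ?_⟩⟩
  · obtain ⟨P, hP⟩ := hS
    obtain ⟨hz1, hz2⟩ := mem_ZD.1 hz
    rw [hP] at hz1
    obtain ⟨c, hc, rfl⟩ := hz1
    refine (S0927.result p M hM B hB g hg P c hc).2 (fun w hw => Subtype.ext ?_) χ hχ ?_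
    · exact (hz2 (w : G) (by rw [hP]; exact ⟨w, hw, rfl⟩)).symm
    · have h3 : (χ : G → ℂ) ((c : G) * g) = 0 := h0
      rw [Basic.centralChar_def, h3, mul_zero, zero_div]
      exact memLocalIdeal_zero hM
  · refine int_div hM hB hD hχ fun d hd => Subgroup.mem_centralizer_singleton_iff.2 ?_
    rw [← mul_assoc, (mem_ZD.1 hz).2 d hd, mul_assoc, Subgroup.mem_centralizer_singleton_iff.1 (hc hd), mul_assoc]

/-- full defect: no member of the block vanishes on `Z(D)` -/
theorem ne_zero_full (hM : IsPModular p M) (hB : IsPBlock M B) (hD : IsDefectGroup p M B D)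
    (hf : (Nat.card D).factorization p = (Nat.card G).factorization p) {χ : IrrCharacter G} (hχ : χ ∈ B) {z : G}
    (hz : z ∈ ZD D) : (χ : G → ℂ) z ≠ 0 := by
  have hp : p.Prime := Fact.out
  have := isPrime hM
  intro h0
  obtain ⟨ψ, hψ, hψ0⟩ := HeightZeroSection.exists_height_zero (Basic.isPBlock_nonempty hB) p
  have h1 : MemLocalIdeal M (centralChar (ψ : G → ℂ) z) := by
    rw [← Basic.centralChar_memLocalIdeal_iff hB hχ hψ, Basic.centralChar_def, h0, mul_zero, zero_div]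
    exact memLocalIdeal_zero hM
  set C := Subgroup.centralizer ({z} : Set G) with hC
  have h2 := nu_add hM hB hD hψ
  have h3 := fac_mono (p := p) (A := D) (C := C) fun d hd =>
    Subgroup.mem_centralizer_singleton_iff.2 ((mem_ZD.1 hz).2 d hd)
  have h4 := fac_mul (p := p) C.card_mul_index Nat.card_pos.ne'
  have hi : C.index ≠ 0 := Subgroup.index_ne_zero_of_finite
  have hn := (Basic.charDegree_pos ψ.2).ne'
  have h5 := memLocalIdeal_mul_left hM
    (DefectCard.memLocalRing_natDiv (a := charDegree (ψ : G → ℂ)) hM hi (by omega)) h1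
  have hiC : (C.index : ℂ) ≠ 0 := by exact_mod_cast hi
  have hnC : ((charDegree (ψ : G → ℂ) : ℕ) : ℂ) ≠ 0 := by exact_mod_cast hn
  rw [Basic.centralChar_def, Basic.irr_one_eq_charDegree ψ.2, ← hC, show ((charDegree (ψ : G → ℂ) : ℕ) : ℂ) / C.index *
    (C.index * (ψ : G → ℂ) z / (charDegree (ψ : G → ℂ) : ℕ)) = (ψ : G → ℂ) z by field_simp] at h5
  have h6 := CharactersDeep.ModCongr.memLocalIdeal_character_sub hM ψ.2 z z
    (PPart.isPPart_of_isPGroup (ord_of_mem hD (mem_ZD.1 hz).1))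
  rw [inv_mul_cancel, memLocalIdeal_congr hM h6, Basic.irr_one_eq_charDegree ψ.2, memLocalIdeal_natCast_iff hM] at *
  exact absurd ((hp.dvd_iff_one_le_factorization hn).1 h5) (by omega)

omit [Finite G] in
theorem center_of_pow {z : G} {n m : ℕ} (hz : z ^ n = 1) (hm : m.Coprime n) (h : z ^ m ∈ Subgroup.center G) :
    z ∈ Subgroup.center G := by
  refine Subgroup.mem_center_iff.2 fun g => Subgroup.mem_centralizer_singleton_iff.1 ?_
  rw [← GaloisConj.centralizer_pow_eq hz hm]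
  exact Subgroup.mem_centralizer_singleton_iff.2 (Subgroup.mem_center_iff.1 h g)

theorem sum_normSq [Fintype G] (χ : IrrCharacter G) : ∑ g, Complex.normSq ((χ : G → ℂ) g) = Nat.card G := by
  rw [← SectionSum.sum_norm_sq χ]
  exact Finset.sum_congr rfl fun g _ => Complex.normSq_eq_norm_sq _

/-- the regular part -/
theorem reg_le [Fintype G] (hM : IsPModular p M) (hB : IsPBlock M B) {χ : IrrCharacter G} (hχ : χ ∈ B)
    (hpos : 0 < blockHeight p B (χ : G → ℂ)) :
    (Nat.card G : ℝ) * p ^ (blockHeight p B (χ : G → ℂ) + 1) ≤ (p : ℝ) ^ blockDefect p B *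
      ∑ g ∈ Finset.univ.filter (fun g : G => ¬ p ∣ orderOf g), Complex.normSq ((χ : G → ℂ) g) := by
  classical
  have hp : p.Prime := Fact.out
  obtain ⟨n, hn⟩ := H646.RegInner.exists_int_pow_defect hM hχ χ
  have h1 := H657.BrauerFeit.diag_dvd hM hB hχ hpos hn
  have hG : (0 : ℝ) < Nat.card G := by exact_mod_cast Nat.card_pos
  have hG' : (Nat.card G : ℂ) ≠ 0 := by exact_mod_cast hG.ne'
  have h3 : (p : ℝ) ^ blockDefect p B * ∑ g ∈ Finset.univ.filter (fun g : G => ¬ p ∣ orderOf g),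
      Complex.normSq ((χ : G → ℂ) g) = Nat.card G * n := by
    rw [Basic.classInner_def, mul_left_comm, inv_mul_eq_iff_eq_mul₀ hG'] at hn
    have h4 : ∀ g, pRegularPart p (χ : G → ℂ) g * conj ((χ : G → ℂ) g) =
        ((if ¬ p ∣ orderOf g then Complex.normSq ((χ : G → ℂ) g) else 0 : ℝ) : ℂ) := by
      intro g
      unfold pRegularPart IsPRegular
      split_ifs
      · rw [zero_mul, Complex.ofReal_zero]
      · exact Complex.mul_conj _
    simp only [h4] at hn
    rw [Finset.sum_filter]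
    exact_mod_cast hn
  have h8 : 0 < ∑ g ∈ Finset.univ.filter (fun g : G => ¬ p ∣ orderOf g), Complex.normSq ((χ : G → ℂ) g) :=
    Finset.sum_pos' (fun g _ => Complex.normSq_nonneg _) ⟨1, Finset.mem_filter.2 ⟨Finset.mem_univ _, by
      rw [orderOf_one]; exact hp.not_dvd_one⟩, Complex.normSq_pos.2 (Basic.irr_one_ne_zero χ.2)⟩
  have hp0 : (0 : ℝ) < (p : ℝ) ^ blockDefect p B := pow_pos (by exact_mod_cast hp.pos) _
  have h9 : (0 : ℝ) < n := (mul_pos_iff_of_pos_left hG).1 (h3 ▸ mul_pos hp0 h8)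
  have h10 := Int.le_of_dvd (by exact_mod_cast h9) h1
  rw [h3]
  exact mul_le_mul_of_nonneg_left (by exact_mod_cast h10) hG.le

theorem ct (hM : IsPModular p M) (hB : IsPBlock M B) (hD : IsDefectGroup p M B D)
    (hf : (Nat.card D).factorization p = (Nat.card G).factorization p) {χ : IrrCharacter G} (hχ : χ ∈ B) {h k : ℕ}
    (hh : (charDegree (χ : G → ℂ)).factorization p = h) (hk : h + k = (Nat.card G).factorization p) (h0 : 0 < h) :
    p ^ (2 * h) * Nat.card {g : G // ∃ z ∈ ZD D, z ∉ Subgroup.center G ∧ ∃ c ∈ Subgroup.center G, IsConj (z * c) g} *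
        p ^ k + p * Nat.card G ≤ p ^ k * Nat.card G := by
  classical
  have hp : p.Prime := Fact.out
  have := Fintype.ofFinite G
  have h1 := nu_add hM hB hD hχ
  have hh' : blockHeight p B (χ : G → ℂ) = h := by omega
  have h2 := reg_le hM hB hχ (by omega)
  rw [← H592.Defect.factorization_card_defect p hM hB hD, hf, ← hk, hh'] at h2
  set Y := Finset.univ.filter fun g : G =>
    ∃ z ∈ ZD D, z ∉ Subgroup.center G ∧ ∃ c ∈ Subgroup.center G, IsConj (z * c) g with hY
  have hcard : Nat.card {g : G // ∃ z ∈ ZD D, z ∉ Subgroup.center G ∧ ∃ c ∈ Subgroup.center G, IsConj (z * c) g} =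
      Y.card := by rw [Nat.card_eq_fintype_card, Fintype.card_subtype]
  have h3 := H732.VZ.card_mul_le χ (Y := Y) (by
    intro g hg m hm
    obtain ⟨z, hz, hzc, c, hc, hg'⟩ := (Finset.mem_filter.1 hg).2
    refine Finset.mem_filter.2 ⟨Finset.mem_univ _, z ^ m, pow_mem hz m, fun h => hzc (center_of_pow
      pow_card_eq_one' hm h), c ^ m, pow_mem hc m, ?_⟩
    rw [← Commute.mul_pow (Subgroup.mem_center_iff.1 hc z)]
    exact H849.OZ.isConj_pow hg' m) (by
    intro g hg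
    obtain ⟨z, hz, -, c, hc, hg'⟩ := (Finset.mem_filter.1 hg).2
    obtain ⟨w, hw, hw'⟩ := CharDeep.DegreeBound.exists_omega χ.2 hc
    rw [← Basic.irr_isConj χ.2 hg', hw']
    exact mul_ne_zero (by rintro rfl; simp at hw) (ne_zero_full hM hB hD hf hχ hz)) (pow_pos hp.pos h) (by
    intro g hg
    obtain ⟨z, hz, -, c, hc, hg'⟩ := (Finset.mem_filter.1 hg).2
    rw [← Basic.irr_isConj χ.2 hg', Nat.cast_pow, ← hh']
    refine int_div hM hB hD hχ fun d hd => Subgroup.mem_centralizer_singleton_iff.2 ?_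
    rw [← mul_assoc, (mem_ZD.1 hz).2 d hd, mul_assoc, Subgroup.mem_center_iff.1 hc d, mul_assoc])
  have h4 : Disjoint Y (Finset.univ.filter (fun g : G => ¬ p ∣ orderOf g)) := by
    refine Finset.disjoint_left.2 fun g hg hg2 => ?_
    obtain ⟨z, hz, hzc, c, hc, hg'⟩ := (Finset.mem_filter.1 hg).2
    have h5 := (Finset.mem_filter.1 hg2).2
    rw [HeightZero.orderOf_eq_of_isConj hg'] at h5
    obtain ⟨j, hj⟩ := ord_of_mem hD (mem_ZD.1 hz).1
    refine hzc (center_of_pow (m := orderOf (z * c)) (pow_orderOf_eq_one z) ?_ ?_)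
    · rw [hj]
      exact ((Nat.Prime.coprime_iff_not_dvd hp).2 h5).symm.pow_right j
    · have h6 := pow_orderOf_eq_one (z * c)
      rw [Commute.mul_pow (Subgroup.mem_center_iff.1 hc z), mul_eq_one_iff_eq_inv] at h6
      rw [h6]
      exact inv_mem (pow_mem hc _)
  have h5 := Finset.sum_le_sum_of_subset_of_nonneg (f := fun g => Complex.normSq ((χ : G → ℂ) g))
    (Finset.subset_univ (Y ∪ Finset.univ.filter (fun g : G => ¬ p ∣ orderOf g))) fun g _ _ => Complex.normSq_nonneg _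
  rw [Finset.sum_union h4, sum_normSq] at h5
  rw [hcard]
  have hp0 : (0 : ℝ) < p := by exact_mod_cast hp.pos
  have h6 : (p : ℝ) * Nat.card G ≤ (p : ℝ) ^ k *
      ∑ g ∈ Finset.univ.filter (fun g : G => ¬ p ∣ orderOf g), Complex.normSq ((χ : G → ℂ) g) := by
    refine le_of_mul_le_mul_left ?_ (pow_pos hp0 h)
    rw [← mul_assoc ((p : ℝ) ^ h) ((p : ℝ) ^ k), ← pow_add]
    refine le_trans (le_of_eq ?_) h2
    ring
  have h7 := mul_le_mul_of_nonneg_left h5 (pow_pos hp0 k).le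
  have h8 := mul_le_mul_of_nonneg_left h3 (pow_pos hp0 k).le
  have h9 : (p : ℝ) ^ (2 * h) * Y.card * p ^ k + p * Nat.card G ≤ p ^ k * Nat.card G := by
    push_cast at h8
    rw [mul_add] at h7
    have : (p : ℝ) ^ (2 * h) * Y.card * p ^ k = p ^ k * (Y.card * (p ^ h) ^ 2) := by ring
    linarith
  exact_mod_cast h9

section sec

open Cfsg.Agent.H604.OZ

variable [Fintype G] [DecidableEq G]

theorem pow_mem_sec {z g : G} (hg : g ∈ sec z p) (k : ℕ) : g ^ k ∈ sec (z ^ k) p := by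
  rw [mem_sec] at hg ⊢
  obtain ⟨w, u, hw, hc, hu, rfl⟩ := hg
  refine ⟨w ^ k, u ^ k, H849.OZ.isConj_pow hw k, hc.pow_pow k k, fun h => hu (h.trans ?_), hc.mul_pow k⟩
  exact orderOf_pow_dvd k

theorem sum_pow (z : G) {k : ℕ} (hk : k.Coprime (Nat.card G)) (f : G → ℝ) :
    ∑ g ∈ sec z p, f (g ^ k) = ∑ g ∈ sec (z ^ k) p, f g := by
  obtain ⟨l, hl⟩ : ∃ l : ℕ, k * l ≡ 1 [MOD Nat.card G] := by
    obtain ⟨l, -, hl⟩ := Nat.exists_mul_mod_eq_of_coprime 1 hk Nat.card_pos.ne'
    exact ⟨l, hl⟩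
  have h1 : ∀ g : G, (g ^ k) ^ l = g := fun g => by
    rw [← pow_mul, pow_eq_pow_of_modEq hl pow_card_eq_one', pow_one]
  refine Finset.sum_nbij' (fun g => g ^ k) (fun g => g ^ l) (fun g hg => pow_mem_sec hg k) (fun g hg => ?_)
    (fun g _ => h1 g) (fun g _ => ?_) fun g _ => rfl
  · have h2 := pow_mem_sec hg l
    rwa [h1] at h2
  · rw [← pow_mul, mul_comm, pow_mul, h1]

theorem sum_inv (χ : IrrCharacter G) (z : G) :
    ∑ g ∈ sec z⁻¹ p, Complex.normSq ((χ : G → ℂ) g) = ∑ g ∈ sec z p, Complex.normSq ((χ : G → ℂ) g) := by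
  have hN : 0 < Nat.card G := Nat.card_pos
  have h1 : ∀ g : G, g ^ (Nat.card G - 1) = g⁻¹ := fun g => by
    rw [eq_inv_iff_mul_eq_one, ← pow_succ, Nat.sub_add_cancel hN, pow_card_eq_one']
  have h2 : (Nat.card G - 1).Coprime (Nat.card G) := by
    have := Nat.coprime_self_add_right (m := Nat.card G - 1) (n := 1)
    rw [Nat.sub_add_cancel hN] at this
    exact this.2 (Nat.coprime_one_right _)
  rw [← h1 z, ← sum_pow z h2]
  refine Finset.sum_congr rfl fun g _ => ?_
  rw [h1, Core.isCharacter_apply_inv (Core.isIrr_isCharacter χ.2), Complex.normSq_conj]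

/-- integrality over the section of an element whose generating powers are `y` and `y⁻¹` -/
theorem sum_int (χ : IrrCharacter G) {y : G} (hy : ∃ n, orderOf y = p ^ n)
    (hrat : ∀ m : ℕ, m.Coprime (Nat.card G) → y ^ m = y ∨ y ^ m = y⁻¹) :
    ∃ k : ℤ, ((p : ℂ) ^ (Nat.card G).factorization p) * ((∑ g ∈ sec y p, Complex.normSq ((χ : G → ℂ) g) : ℝ) : ℂ) =
      Nat.card G * k := by
  classical
  have hr : p.Prime := Fact.out
  have := Fintype.ofFinite (Subgroup.centralizer ({y} : Set G))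
  set S : ℝ := ∑ g ∈ sec y p, Complex.normSq ((χ : G → ℂ) g) with hS
  have hχ := Core.isIrr_isCharacter χ.2
  have hψ : IsCharacter (Subgroup.centralizer ({y} : Set G))
      (fun u => (χ : G → ℂ) u * (starRingEnd ℂ) ((χ : G → ℂ) u)) := by
    have h3 := Core.isCharacter_mul hχ (Core.isCharacter_conj hχ)
    exact Core.isCharacter_comp (Subgroup.centralizer ({y} : Set G)).subtype h3
  have hyc : (⟨y, by rw [Subgroup.mem_centralizer_singleton_iff]⟩ : Subgroup.centralizer ({y} : Set G)) ∈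
      Subgroup.center (Subgroup.centralizer ({y} : Set G)) := by
    rw [Subgroup.mem_center_iff]
    intro u
    exact Subtype.ext (Subgroup.mem_centralizer_singleton_iff.1 u.2)
  have hC0 : Nat.card (Subgroup.centralizer ({y} : Set G)) ≠ 0 := Nat.card_pos.ne'
  obtain ⟨α, hα, hsum⟩ := sum_shift hψ hyc hr (Nat.ordProj_dvd _ p) (Nat.pow_succ_factorization_not_dvd hC0 hr)
  obtain ⟨e, he⟩ := Nat.exists_eq_add_of_le (fac_le (p := p)
    (Subgroup.centralizer ({y} : Set G)).card_subgroup_dvd_card Nat.card_pos.ne')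
  set m := (Nat.card (Subgroup.centralizer ({y} : Set G))).factorization p with hm
  have hsum' : ((p : ℂ) ^ m) * ((∑ g ∈ H733.OZ.reg (Subgroup.centralizer ({y} : Set G)) p,
      Complex.normSq ((χ : G → ℂ) (y * g)) : ℝ) : ℂ) = (Nat.card (Subgroup.centralizer ({y} : Set G)) : ℂ) * α := by
    rw [← hsum]
    push_cast
    exact congrArg _ (Finset.sum_congr rfl fun g _ => (Complex.mul_conj _).symm)
  have hB := sum_sec hr hy (f := fun g => Complex.normSq ((χ : G → ℂ) g)) (fun g h => by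
    show Complex.normSq ((χ : G → ℂ) (h * g * h⁻¹)) = Complex.normSq ((χ : G → ℂ) g)
    rw [Core.isIrr_isClassFunction χ.2 g h])
  have hG : (Nat.card G : ℂ) ≠ 0 := by exact_mod_cast Nat.card_pos.ne'
  have hC : (Nat.card (Subgroup.centralizer ({y} : Set G)) : ℂ) ≠ 0 := by exact_mod_cast hC0
  have hSα : ((p : ℂ) ^ m) * (S : ℂ) = Nat.card G * α := by
    have hB' : (Nat.card (Subgroup.centralizer ({y} : Set G)) : ℂ) * (S : ℂ) =
        Nat.card G * ((∑ g ∈ H733.OZ.reg (Subgroup.centralizer ({y} : Set G)) p,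
          Complex.normSq ((χ : G → ℂ) (y * g)) : ℝ) : ℂ) := by
      exact_mod_cast hB
    apply mul_left_cancel₀ hC
    linear_combination ((p : ℂ) ^ m) * hB' + (Nat.card G : ℂ) * hsum'
  have hαeq : α = ((p : ℂ) ^ m) * (S : ℂ) / Nat.card G := by
    rw [hSα]
    field_simp
  have hfix : ∀ σ : ℂ ≃+* ℂ, σ (S : ℂ) = S := by
    intro σ
    obtain ⟨k, hk, hσ⟩ := GaloisBasic.exists_pow_of_ringEquiv (G := G) σ
    have h3 : (S : ℂ) = ∑ g ∈ sec y p, (χ : G → ℂ) g * (starRingEnd ℂ) ((χ : G → ℂ) g) := by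
      rw [hS]
      push_cast
      exact Finset.sum_congr rfl fun g _ => (Complex.mul_conj _).symm
    have h4 : σ (S : ℂ) = ∑ g ∈ sec y p, (χ : G → ℂ) (g ^ k) * (starRingEnd ℂ) ((χ : G → ℂ) (g ^ k)) := by
      rw [h3, map_sum]
      refine Finset.sum_congr rfl fun g _ => ?_
      rw [map_mul, hσ _ hχ g]
      congr 1
      exact hσ _ (Core.isCharacter_conj hχ) g
    have h5 : (∑ g ∈ sec y p, (χ : G → ℂ) (g ^ k) * (starRingEnd ℂ) ((χ : G → ℂ) (g ^ k)) : ℂ) =
        ((∑ g ∈ sec y p, Complex.normSq ((χ : G → ℂ) (g ^ k)) : ℝ) : ℂ) := by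
      push_cast
      exact Finset.sum_congr rfl fun g _ => Complex.mul_conj _
    rw [h4, h5, sum_pow y hk fun g => Complex.normSq ((χ : G → ℂ) g)]
    rcases hrat k hk with h | h
    · rw [h]
    · rw [h, sum_inv]
  obtain ⟨k, hk⟩ := GaloisBasic.exists_int_of_isIntegral hα
    (GaloisBasic.exists_rat_of_forall_ringEquiv hα.tower_top (fun σ => by
      rw [hαeq, map_div₀, map_mul, hfix σ, map_pow, map_natCast, map_natCast]))
  refine ⟨p ^ e * k, ?_⟩
  rw [he, pow_add]
  push_cast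
  linear_combination (p : ℂ) ^ e * hSα + (p : ℂ) ^ e * (Nat.card G : ℂ) * hk

theorem conj_mem_sec {z : G} (g h : G) : h * g * h⁻¹ ∈ sec z p ↔ g ∈ sec z p := by
  have key : ∀ g h : G, g ∈ sec z p → h * g * h⁻¹ ∈ sec z p := by
    intro g h hg
    rw [mem_sec] at hg ⊢
    obtain ⟨w, u, hw, hc, hu, rfl⟩ := hg
    refine ⟨h * w * h⁻¹, h * u * h⁻¹, hw.trans (isConj_iff.2 ⟨h, rfl⟩), (hc.map (MulAut.conj h) :), ?_, by group⟩
    rwa [HeightZero.orderOf_conj]
  refine ⟨fun h1 => ?_, key g h⟩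
  have h2 := key _ h⁻¹ h1
  rwa [show h⁻¹ * (h * g * h⁻¹) * h⁻¹⁻¹ = g by group] at h2

/-- positive height: the sum over a section divided by the degree lies in the local ideal -/
theorem mem_ideal (hM : IsPModular p M) (hB : IsPBlock M B) {χ : IrrCharacter G} (hχ : χ ∈ B)
    (hpos : 0 < blockHeight p B (χ : G → ℂ)) (z : G) :
    MemLocalIdeal M (((∑ g ∈ sec z p, Complex.normSq ((χ : G → ℂ) g) : ℝ) : ℂ) / (χ : G → ℂ) 1) := by
  have := isPrime hM
  obtain ⟨ψ, hψ, hψ0⟩ := HeightZeroSection.exists_height_zero (Basic.isPBlock_nonempty hB) p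
  have hcl : ∀ η : IrrCharacter G, IsClassFunction G fun g => if g ∈ sec z p then conj ((η : G → ℂ) g) else 0 := by
    intro η g h
    simp only [conj_mem_sec, Basic.irr_conj η.2]
  have hR : ∀ η : IrrCharacter G, ∀ g, IsIntegral ℤ (if g ∈ sec z p then conj ((η : G → ℂ) g) else 0) := by
    intro η g
    split_ifs
    · exact DefectCard.isIntegral_conj (DefectCard.isIntegral_irr η.2 g)
    · exact isIntegral_zero
  have h1 := ClassSum.memLocalIdeal_of_sameBlock (Basic.irr_isClassFunction χ.2) (Basic.irr_isClassFunction ψ.2)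
    (Basic.isPBlock_sameBlock hB hχ hψ) (hcl χ) fun g => memLocalRing_of_isIntegral hM (hR χ g)
  -- the integrality of the mixed sum
  have h2 : IsIntegral ℤ (∑ g : G, (if g ∈ sec z p then conj ((ψ : G → ℂ) g) else 0) *
      ((χ : G → ℂ) g / (χ : G → ℂ) 1)) := by
    obtain ⟨T, hT⟩ := ClassSum.exists_reps (G := G)
    rw [hT _ _ (hcl ψ)]
    refine IsIntegral.sum _ fun t _ => (hR ψ t).mul ?_
    rw [ClassSum.finsum_conj_div (Basic.irr_isClassFunction χ.2)]
    exact HeightZero.isIntegral_centralChar χ t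
  have hχ1 := Basic.irr_one_eq_charDegree χ.2
  have hψ1 := Basic.irr_one_eq_charDegree ψ.2
  have hlt : (charDegree (ψ : G → ℂ)).factorization p < (charDegree (χ : G → ℂ)).factorization p := by
    rw [Basic.blockHeight_def] at hpos hψ0
    omega
  have h3 := memLocalIdeal_mul_right hM (DefectCard.memLocalIdeal_natDiv hM (Basic.charDegree_pos ψ.2).ne' hlt)
    (memLocalRing_of_isIntegral hM (DefectCard.isIntegral_conj h2))
  have hχ0 : ((charDegree (χ : G → ℂ) : ℕ) : ℂ) ≠ 0 := hχ1 ▸ Basic.irr_one_ne_zero χ.2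
  have hψ0' : ((charDegree (ψ : G → ℂ) : ℕ) : ℂ) ≠ 0 := hψ1 ▸ Basic.irr_one_ne_zero ψ.2
  have h4 : ((charDegree (χ : G → ℂ) : ℕ) : ℂ) / ((charDegree (ψ : G → ℂ) : ℕ) : ℂ) *
      conj (∑ g : G, (if g ∈ sec z p then conj ((ψ : G → ℂ) g) else 0) * ((χ : G → ℂ) g / (χ : G → ℂ) 1)) =
      ∑ g : G, (if g ∈ sec z p then conj ((χ : G → ℂ) g) else 0) * ((ψ : G → ℂ) g / (ψ : G → ℂ) 1) := by
    rw [map_sum, Finset.mul_sum]
    refine Finset.sum_congr rfl fun g _ => ?_
    rw [hχ1, hψ1]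
    split_ifs
    · rw [map_mul, map_div₀, Complex.conj_conj, map_natCast]
      field_simp
    · simp
  rw [h4, ← memLocalIdeal_congr hM h1] at h3
  convert h3 using 1
  push_cast
  rw [Finset.sum_div, ← Finset.sum_subset (Finset.subset_univ (sec z p)) (fun g _ hg => by rw [if_neg hg, zero_mul])]
  refine Finset.sum_congr rfl fun g hg => ?_
  rw [if_pos hg, ← Complex.mul_conj]
  ring

/-- the lower bound for one section -/
theorem sec_le (hM : IsPModular p M) (hB : IsPBlock M B) (hD : IsDefectGroup p M B D) {χ : IrrCharacter G}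
    (hχ : χ ∈ B) (hpos : 0 < blockHeight p B (χ : G → ℂ)) {z : G} (hz : z ∈ ZD D)
    (hrat : ∀ m : ℕ, m.Coprime (Nat.card G) → z ^ m = z ∨ z ^ m = z⁻¹) :
    (Nat.card G : ℝ) * p ^ ((charDegree (χ : G → ℂ)).factorization p + 1) ≤
      (p : ℝ) ^ (Nat.card G).factorization p * ∑ g ∈ sec z p, Complex.normSq ((χ : G → ℂ) g) := by
  have hp : p.Prime := Fact.out
  obtain ⟨k, hk⟩ := sum_int χ (ord_of_mem hD (mem_ZD.1 hz).1) hrat
  have h1 := mem_ideal hM hB hχ hpos z
  obtain ⟨y, hy, hyD, hv⟩ := val hM hB hD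
  have h2 : 0 < ∑ g ∈ sec z p, Complex.normSq ((χ : G → ℂ) g) :=
    Finset.sum_pos' (fun g _ => Complex.normSq_nonneg _) ⟨z * y, mem_sec.2 ⟨z, y, IsConj.refl z,
      Subgroup.mem_centralizer_singleton_iff.1 (Basic.le_centralizer_of_isSylowCentralizer hyD (mem_ZD.1 hz).1), hy, rfl⟩,
      Complex.normSq_pos.2 (hv χ hχ z hz).1⟩
  set S := ∑ g ∈ sec z p, Complex.normSq ((χ : G → ℂ) g) with hS
  set a := (Nat.card G).factorization p with ha
  set e := (charDegree (χ : G → ℂ)).factorization p with he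
  have hN : Nat.card G ≠ 0 := Nat.card_pos.ne'
  have hn := (Basic.charDegree_pos χ.2).ne'
  have hG : (Nat.card G : ℂ) ≠ 0 := by exact_mod_cast hN
  have hnC : ((charDegree (χ : G → ℂ) : ℕ) : ℂ) ≠ 0 := by exact_mod_cast hn
  have hp0 : (p : ℂ) ≠ 0 := by exact_mod_cast hp.ne_zero
  have h3 := memLocalIdeal_mul_left hM (DefectCard.memLocalRing_natDiv (a := p ^ a * charDegree (χ : G → ℂ))
    (b := p ^ e * Nat.card G) hM (mul_ne_zero (pow_ne_zero _ hp.ne_zero) hN) (by
      rw [Nat.factorization_mul (pow_ne_zero _ hp.ne_zero) hN, Nat.factorization_mul (pow_ne_zero _ hp.ne_zero) hn,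
        Finsupp.add_apply, Finsupp.add_apply, Nat.factorization_pow_self hp, Nat.factorization_pow_self hp]
      omega)) h1
  rw [Basic.irr_one_eq_charDegree χ.2] at h3
  have h4 : ((p ^ e : ℕ) : ℂ) * (((p ^ a * charDegree (χ : G → ℂ) : ℕ) : ℂ) / ((p ^ e * Nat.card G : ℕ) : ℂ) *
      ((S : ℂ) / (charDegree (χ : G → ℂ) : ℕ))) = k := by
    push_cast
    field_simp
    linear_combination hk
  obtain ⟨n, hn'⟩ := H646.RegInner.exists_int_of_memLocalRing hM h4 (memLocalIdeal_memLocalRing h3)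
  rw [hn', memLocalIdeal_intCast_iff hM] at h3
  rw [hn'] at h4
  have h5 : (p : ℤ) ^ e * n = k := by exact_mod_cast h4
  have hk' : (p : ℝ) ^ a * S = Nat.card G * k := by exact_mod_cast hk
  have hGr : (0 : ℝ) < Nat.card G := by exact_mod_cast Nat.card_pos
  have h6 : (0 : ℝ) < k := (mul_pos_iff_of_pos_left hGr).1
    (hk' ▸ mul_pos (pow_pos (by exact_mod_cast hp.pos) _) h2)
  have h7 : (p : ℤ) ^ (e + 1) ≤ k := Int.le_of_dvd (by exact_mod_cast h6) (by
    rw [← h5, pow_succ]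
    exact mul_dvd_mul_left _ h3)
  rw [hk']
  exact mul_le_mul_of_nonneg_left (by exact_mod_cast h7) hGr.le

theorem disj {z z' : G} (hz : ∃ k, orderOf z = p ^ k) (hz' : ∃ k, orderOf z' = p ^ k) (h : ¬ IsConj z z') :
    Disjoint (sec z p) (sec z' p) := by
  refine Finset.disjoint_left.2 fun g hg hg' => h ?_
  obtain ⟨w, u, hw, hc, hu, rfl⟩ := mem_sec.1 hg
  obtain ⟨w', u', hw', hc', hu', he⟩ := mem_sec.1 hg'
  have h1 := PPart.isPPart_mul hc' (orderOf_conj_pow hz' hw') hu'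
  rw [← he] at h1
  rw [PPart.isPPart_unique (PPart.isPPart_mul hc (orderOf_conj_pow hz hw) hu) h1] at hw
  exact hw.trans hw'.symm

end sec

omit [Finite G] in
theorem pow_three {z : G} (hz : z ^ 3 = 1) {N m : ℕ} (hN : z ^ N = 1) (hm : m.Coprime N) : z ^ m = z ∨ z ^ m = z⁻¹ := by
  rw [pow_eq_pow_mod m hz]
  have h1 : m % 3 = 0 ∨ m % 3 = 1 ∨ m % 3 = 2 := by omega
  rcases h1 with h1 | h1 | h1
  · have h2 : z ^ m = 1 := by rw [pow_eq_pow_mod m hz, h1, pow_zero]
    have h3 : z = 1 := by rw [← pow_one z, ← hm.gcd_eq_one]; exact pow_gcd_eq_one.2 ⟨h2, hN⟩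
    left
    rw [h3, one_pow]
  · left
    rw [h1, pow_one]
  · right
    rw [h1, eq_inv_iff_mul_eq_one, ← pow_succ, hz]

end Cfsg.Agent.RC.Blk

namespace Cfsg.Agent.RC

open Cfsg.Agent.Blocks Cfsg.Agent.RC.Blk

theorem boxVal : BoxVal := fun p _ hM _ _ _ _ _ hB hD =>
  have : Fact p.Prime := ⟨hM.1⟩
  val hM hB hD

theorem boxCT : BoxCT := fun p _ hM _ _ _ _ _ hB hD hf _ hχ _ _ hh hk h0 =>
  have : Fact p.Prime := ⟨hM.1⟩
  ct hM hB hD hf hχ hh hk h0

theorem boxCnt3 : BoxCnt3 := by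
  classical
  intro M hM G _ _ B D hB hD χ hχ hpos s hs hs'
  have := Fintype.ofFinite G
  have h1 := Finset.sum_le_sum fun z (hz : z ∈ s) => sec_le hM hB hD hχ hpos (hs z hz).1 fun m hm =>
    pow_three (hs z hz).2 pow_card_eq_one' hm
  rw [Finset.sum_const, nsmul_eq_mul, ← Finset.mul_sum, ← Finset.sum_biUnion fun z hz z' hz' hne =>
    disj (ord_of_mem hD (mem_ZD.1 (hs z hz).1).1) (ord_of_mem hD (mem_ZD.1 (hs z' hz').1).1)
      fun h => hne (hs' z hz z' hz' h)] at h1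
  have h2 := Finset.sum_le_sum_of_subset_of_nonneg (f := fun g => Complex.normSq ((χ : G → ℂ) g))
    (Finset.subset_univ (s.biUnion fun z => H604.OZ.sec z 3)) fun g _ _ => Complex.normSq_nonneg _
  rw [sum_normSq] at h2
  have hG : (0 : ℝ) < Nat.card G := by exact_mod_cast Nat.card_pos
  have h3 := h1.trans (mul_le_mul_of_nonneg_left h2 (by positivity))
  have h4 : (3 : ℝ) * s.card * 3 ^ (charDegree (χ : G → ℂ)).factorization 3 ≤ 3 ^ (Nat.card G).factorization 3 := by
    push_cast at h3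
    refine le_of_mul_le_mul_right (le_trans (le_of_eq ?_) h3) hG
    ring
  exact_mod_cast h4

end Cfsg.Agent.RC
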