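import Cfsg.Agent.RC.D2T
import Cfsg.Agent.RC.Blk

/-!
# RC (S4576): rows from a Sylow subgroup of class three (helper12)

* `rrow_c3` : Sylow subgroups of order at most `p ^ 4` and class three;
* `rrow_cnt` : Sylow `3`-subgroups of order at most `3 ^ 5` and class three whose centre meets four classes.
-/

set_option autoImplicit false
set_option linter.unusedSectionVars false

namespace Cfsg.Agent.RC.D1

open Cfsg Cfsg.Agent.KM Cfsg.Agent.KM.Mu Subgroup
open scoped commutatorElement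

variable {p : ℕ} [hp : Fact p.Prime] {Γ : Type} [Group Γ] [Finite Γ] {P Q W : Subgroup Γ}

/-- the class is at least three -/
def C3 (Q : Subgroup Γ) : Prop := ∃ x ∈ Q, ∃ y ∈ Q, ∃ w ∈ Q, w * ⁅x, y⁆ ≠ ⁅x, y⁆ * w

theorem comm_of_card {X : Type} [Group X] [Finite X] {k : ℕ} (h : Nat.card X = p ^ k) (hk : k ≤ 2) (a b : X) :
    a * b = b * a := by
  rcases hk.eq_or_lt with rfl | hk
  · exact (IsPGroup.isMulCommutative_of_card_eq_prime_sq h).is_comm.comm a b
  · have := isCyclic_of_card_dvd_prime (p := p) (α := X) (h ▸ (pow_dvd_pow p (by omega)).trans (pow_one p).dvd)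
    exact (IsCyclic.commGroup (α := X)).mul_comm a b

theorem C3.lt (h : C3 P) (hP : IsPGroup p P) (hW : Cn W P) :
    (Nat.card W).factorization p + 3 ≤ (Nat.card P).factorization p := by
  by_contra h1
  obtain ⟨x, hx, y, hy, w, hw, h⟩ := h
  have h2 := fac_mul (p := p) (center P).card_mul_index Nat.card_pos.ne'
  have h3 := fac_mono (p := p) (show W ≤ ZD P from fun a ha => mem_ZD.2 ⟨hW.1 ha, fun d hd => (hW.2 a ha d hd).symm⟩)
  obtain ⟨k, hk⟩ := IsPGroup.iff_card.1 (hP.to_quotient (center P))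
  have h4 : (center P).index = p ^ k := hk
  rw [h4, hp.out.factorization_pow, Finsupp.single_eq_same] at h2
  rw [card_ZD] at h3
  have h5 : ⁅(⟨x, hx⟩ : P), ⟨y, hy⟩⁆ ∈ center P := by
    rw [← QuotientGroup.eq_one_iff]
    exact (map_commutatorElement (QuotientGroup.mk' (center P)) _ _).trans
      (commutatorElement_eq_one_iff_mul_comm.2 (comm_of_card hk (by omega) _ _))
  exact h (congrArg Subtype.val (mem_center_iff.1 h5 ⟨w, hw⟩))

theorem exists_conj_le (hP : IsPGroup p P) (hQ : IsPGroup p Q)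
    (h : (Nat.card Γ).factorization p ≤ (Nat.card Q).factorization p) :
    ∃ g : Γ, P.map (MulAut.conj g).toMonoidHom ≤ Q := by
  obtain ⟨R, hR⟩ := hQ.exists_le_sylow
  obtain ⟨R', hR'⟩ := hP.exists_le_sylow
  obtain ⟨g, rfl⟩ := MulAction.exists_smul_eq Γ R' R
  rw [H592.Defect.eq_of_le_of_factorization p hQ (g • R').isPGroup' hR
    ((fac_le (card_subgroup_dvd_card _) Nat.card_pos.ne').trans h)]
  exact ⟨g, map_mono hR'⟩

theorem fac_lt_of {n a : ℕ} (hn : n ≠ 0) (h : ¬ p ^ a ∣ n) : n.factorization p < a :=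
  not_le.1 fun e => h ((hp.out.pow_dvd_iff_le_factorization hn).2 e)

/-- **Sylow subgroups of order at most `p ^ 4` and class three** -/
theorem rrow_c3 (hQ : IsPGroup p Q) (h3 : C3 Q) (h : ¬ p ^ 5 ∣ Nat.card Γ) : RRow p Γ := fun K _ _ σ M B D χ H => by
  obtain ⟨W, hW, h1⟩ := H.exists_cn
  have h2 := H.four_le
  have h4 := fac_lt_of Nat.card_pos.ne' h
  obtain ⟨g, hg⟩ := exists_conj_le hQ (H.pg.map σ) (by omega)
  obtain ⟨x, hx, y, hy, w, hw, h5⟩ := h3
  have h6 := C3.lt ⟨_, hg ⟨x, hx, rfl⟩, _, hg ⟨y, hy, rfl⟩, _, hg ⟨w, hw, rfl⟩, fun e => h5 ((MulAut.conj g).injective (by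
    rw [map_mul, map_mul, map_commutatorElement]; exact e))⟩ (H.pg.map σ) hW
  have h7 := fac_le (p := p) (card_subgroup_dvd_card (D.map σ)) Nat.card_pos.ne'
  omega

/-- **Sylow `3`-subgroups of order at most `3 ^ 5` and class three whose centre meets four classes** -/
theorem rrow_cnt {S : Type} [Group S] (ρ : S →* Γ) (hρ : Function.Injective ρ) {A : Type} [CommGroup A]
    (hA : HasSchurMultiplier S A) (h3 : ¬ 3 ∣ Nat.card A) (hΓ : ¬ 3 ^ 6 ∣ Nat.card Γ) (hQ : IsPGroup 3 Q) (hc : C3 Q)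
    (s : Finset Γ) (hs : 4 ≤ s.card) (h1 : ∀ z ∈ s, z ∈ Q ∧ z ^ 3 = 1 ∧ ∀ q ∈ Q, q * z = z * q)
    (h2 : ∀ z ∈ s, ∀ z' ∈ s, IsConj z z' → z = z') : RRow 3 S := fun K _ _ σ M B D χ H => by
  classical
  have : Fact (Nat.Prime 3) := ⟨Nat.prime_three⟩
  rcases Nat.eq_zero_or_pos (blockHeight 3 B (χ : K → ℂ)) with h0 | h0
  · exact (rob_iff H.nab).2 (sm_of_height H.hM H.hB H.hD H.mem h0)
  have hZ : Cn (ZD Q) Q := ⟨fun z hz => (mem_ZD.1 hz).1, fun z hz q hq => ((mem_ZD.1 hz).2 q hq).symm⟩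
  have hs' : ∀ z ∈ s, z ∈ ZD Q := fun z hz => mem_ZD.2 ⟨(h1 z hz).1, (h1 z hz).2.2⟩
  have a1 : 2 ≤ (Nat.card (ZD Q)).factorization 3 := by
    by_contra e
    have b1 := H592.Defect.card_eq_pow_factorization 3 (hQ.to_le hZ.1)
    have b2 : s.card ≤ Nat.card (ZD Q) := by
      rw [← Set.ncard_coe_finset]
      exact Set.ncard_le_ncard hs' (Set.toFinite _)
    have b3 := Nat.pow_le_pow_right (n := 3) (by norm_num) (show (Nat.card (ZD Q)).factorization 3 ≤ 1 by omega)
    omega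
  have a2 := hc.lt hQ hZ
  have a3 := fac_lt_of Nat.card_pos.ne' hΓ
  have a4 := fac_le (p := 3) (card_subgroup_dvd_card Q) Nat.card_pos.ne'
  obtain ⟨g, hg⟩ := exists_conj_le (H.pg.map (ρ.comp σ)) hQ (by omega)
  rw [map_map] at hg
  set τ := (MulAut.conj g).toMonoidHom.comp (ρ.comp σ) with hτ
  have a5 : ∀ d ∈ D, τ d = 1 → d = 1 := fun d hd e => by
    obtain ⟨k, hk⟩ := H.pg ⟨d, hd⟩
    have b1 : d ∈ σ.ker := hρ (((MulAut.conj g).map_eq_one_iff.1 e).trans (map_one ρ).symm)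
    exact eq_one_of_coprime (congrArg Subtype.val hk) (congrArg Subtype.val (pow_card_eq_one' (x := (⟨d, b1⟩ : σ.ker))))
      fun e => h3 (e.trans (H95.StemCover.card_ker_dvd hA H.qs.1.commutator_eq_top σ H.surj H.ker.le))
  have a6 : ∀ U ≤ D, Nat.card (U.map τ) = Nat.card U := fun U hU => by
    rw [← card_ker_mul τ U, show U ⊓ τ.ker = ⊥ from eq_bot_iff.2 fun d hd => a5 d (hU hd.1) hd.2, card_bot, one_mul]
  have hD : Cn (ZD D) D := ⟨fun z hz => (mem_ZD.1 hz).1, fun z hz q hq => ((mem_ZD.1 hz).2 q hq).symm⟩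
  have hW := hD.map τ
  have a7 := congrArg (Nat.factorization · 3) ((a6 _ hD.1).trans (card_ZD D))
  have a8 := congrArg (Nat.factorization · 3) (a6 _ le_rfl)
  have a9 := fac_center H.pg H.na
  have a10 := H.big
  have a11 : ZD Q ≤ D.map τ := by
    by_contra e
    have b1 := fac_lt (hQ.to_le (sup_le hg hZ.1)) le_sup_left fun e' => e (e' ▸ le_sup_right)
    have b2 : D.map τ ⊔ ZD Q = Q := by_contra fun e' => by
      have := fac_lt hQ (sup_le hg hZ.1) e'
      omega
    have b3 : (ZD D).map τ ≤ ZD Q := fun w hw => mem_ZD.2 ⟨hg (hW.1 hw), fun q hq =>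
      mem_centralizer_singleton_iff.1 ((sup_le (fun d hd => mem_centralizer_singleton_iff.2 (hW.2 w hw d hd).symm)
        fun z hz => mem_centralizer_singleton_iff.2 (hZ.2 z hz w (hg (hW.1 hw))) : _ ≤ centralizer {w}) (b2.ge hq))⟩
    have := fac_lt (hQ.to_le hZ.1) b3 fun e' => e (e' ▸ hW.1)
    omega
  have a12 : (Nat.card (center D)).factorization 3 ≤ 2 := by
    by_cases e : D.map τ = Q
    · have := C3.lt (e ▸ hc) (H.pg.map τ) hW
      have := fac_mono (p := 3) hg
      omega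
    · have := fac_lt hQ hg e
      omega
  choose! d hd hd' using fun z (hz : z ∈ s) => a11 (hs' z hz)
  have a13 := boxCnt3 M H.hM K B D H.hB H.hD χ H.mem h0 (s.image d) (fun _ hy => by
      obtain ⟨z, hz, rfl⟩ := Finset.mem_image.1 hy
      refine ⟨mem_ZD.2 ⟨hd z hz, fun x hx => mul_inv_eq_one.1 (a5 _ (mul_mem (mul_mem hx (hd z hz))
        (inv_mem (mul_mem (hd z hz) hx))) ?_)⟩, a5 _ (pow_mem (hd z hz) 3) (by rw [map_pow, hd' z hz, (h1 z hz).2.1])⟩
      rw [map_mul, map_inv, map_mul, map_mul, hd' z hz, (h1 z hz).2.2 _ (hg ⟨x, hx, rfl⟩), mul_inv_cancel])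
    fun _ hy _ hy' e => by
      obtain ⟨z, hz, rfl⟩ := Finset.mem_image.1 hy
      obtain ⟨z', hz', rfl⟩ := Finset.mem_image.1 hy'
      rw [h2 z hz z' hz' (hd' z hz ▸ hd' z' hz' ▸ τ.map_isConj e)]
  rw [Finset.card_image_of_injOn fun z hz z' hz' e => by rw [← hd' z hz, e, hd' z' hz']] at a13
  have a14 : 3 ^ ((charDegree (χ : K → ℂ)).factorization 3 + 2) < 3 ^ (Nat.card K).factorization 3 := by
    refine lt_of_lt_of_le ?_ a13
    rw [pow_add, mul_comm]
    exact Nat.mul_lt_mul_of_pos_right (by omega) (by positivity)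
  have a15 := (Nat.pow_lt_pow_iff_right (by norm_num)).1 a14
  unfold Rob
  omega

/-- the wreath product `3 ≀ 3` times a central factor -/
theorem wr {a b c d t : Γ} (a3 : a ^ 3 = 1) (b3 : b ^ 3 = 1) (c3 : c ^ 3 = 1) (d3 : d ^ 3 = 1) (t3 : t ^ 3 = 1)
    (ab : a * b = b * a) (ac : a * c = c * a) (bc : b * c = c * b) (ad : a * d = d * a) (bd : b * d = d * b)
    (cd : c * d = d * c) (ta : t * a = b * t) (tb : t * b = c * t) (tc : t * c = a * t) (td : t * d = d * t) :
    IsPGroup 3 (closure {a, b, c, d, t} : Subgroup Γ) := by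
  have h1 : ∀ x ∈ ({a, b, c, d} : Set Γ), ∀ y ∈ ({a, b, c, d} : Set Γ), x * y = y * x := by
    rintro x (rfl | rfl | rfl | rfl) y (rfl | rfl | rfl | rfl) <;> first | rfl | assumption | (symm; assumption)
  have h2 : IsPGroup 3 (closure {a, b, c, d} : Subgroup Γ) := fun ⟨x, hx⟩ => ⟨1, Subtype.ext (by
    change x ^ 3 = 1
    induction hx using closure_induction with
    | mem x hx => rcases hx with rfl | rfl | rfl | rfl <;> assumption
    | one => exact one_pow 3
    | mul x y hx hy e e' =>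
      rw [Commute.mul_pow (congrArg Subtype.val ((isMulCommutative_closure h1).is_comm.comm ⟨x, hx⟩ ⟨y, hy⟩)), e, e', one_mul]
    | inv x _ e => rw [inv_pow, e, inv_one])⟩
  have h3 : IsPGroup 3 (zpowers t) := fun ⟨x, k, hk⟩ => ⟨1, Subtype.ext (by
    change x ^ 3 = 1
    rw [← hk, ← zpow_natCast, ← zpow_mul, mul_comm, zpow_mul, zpow_natCast, t3, one_zpow])⟩
  have h4 : (closure {a, b, c, d} : Subgroup Γ).map (MulAut.conj t).toMonoidHom = closure {a, b, c, d} := by
    rw [MonoidHom.map_closure]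
    simp only [Set.image_insert_eq, Set.image_singleton, MulEquiv.coe_toMonoidHom, MulAut.conj_apply, ta, tb, tc, td,
      mul_inv_cancel_right]
    rw [Set.insert_comm a, Set.insert_comm a]
  refine (h3.to_sup_of_normal_right' h2 (zpowers_le.2 (mem_normalizer_iff.2 fun x => ?_))).to_le
    ((closure_le _).2 ?_)
  · conv_rhs => rw [← h4]
    exact (mem_map_iff_mem (MulAut.conj t).injective).symm
  · rintro x (rfl | rfl | rfl | rfl | rfl)
    iterate 4 exact mem_sup_right (subset_closure (by simp))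
    exact mem_sup_left (mem_zpowers _)

end Cfsg.Agent.RC.D1
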