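import Cfsg.Agent.RC.D2T
import Cfsg.Agent.KM.Ex.OneX
import Cfsg.Agent.KM.Sc.E2
import Cfsg.Agent.KM.Sc.Dat3
import Cfsg.Agent.KM.A.Main
import Cfsg.Agent.S0783

/-!
# RC (S4576): the rows of type `A` and of exceptional type at good primes (helper90)

* `SI` : Robinson's inequality for `G ^ F` at the primes of Levi type;
* `g2_ge`, `row_td4`, `f4_ge`, `tf4_ge`, `e6_ge`, `te6_ge`, `e7_ge`, `e8_ge`, `psl_good`, `psu_good`.
-/

set_option autoImplicit false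
set_option linter.unusedSectionVars false

namespace Cfsg.Agent.RC.D2

open Cfsg Cfsg.Lie Cfsg.Agent.DL Cfsg.Agent.KZ.DatX Cfsg.Agent.Nodes.RGDChev Cfsg.Agent.ChevalleyStructure.NPerm
open Cfsg.Agent.KM Cfsg.Agent.KM.Mu Cfsg.Agent.KM.Ex Matrix
open Cfsg.Agent.TO.X.Cn (Pi1 PM pi1 pm_G2 pm_F4 pm_D4 pm_E8)

/-- the strict height inequality at the primes of Levi type -/
def SI : Prop :=
  ∀ {p : ℕ} [Fact p.Prime] {k : Type} [Field k] [CharP k p] {Y : Type} [Group Y] {N : Type} [Fintype N]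
    [DecidableEq N] {ρ : Y →* GL N k} {F : MulAut Y} {G : Subgroup Y} [IsAlgClosed k] (X : Datum p ρ F G),
    X.QS → ∀ (l f : ℕ) (M : Ideal AlgInt), l.Prime → l ≠ 2 → IsPModular l M → l ≠ p → Pi1 X f → l.Coprime f →
    Tor.Lev X l → (∀ (H : Type) [Group H] [Finite H], BK.KMg l M H) → RCg l M ↥(GF F G)

variable {l : ℕ} [hl : Fact l.Prime] {S : Type} [Group S] [Finite S]

theorem SI.rk (hS : SI) {p : ℕ} [Fact p.Prime] {k : Type} [Field k] [CharP k p] {Y : Type} [Group Y] {N : Type}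
    [Fintype N] [DecidableEq N] {ρ : Y →* GL N k} {F : MulAut Y} {G : Subgroup Y} [IsAlgClosed k] {X : Datum p ρ F G}
    [Finite ↥(GF F G)] (hq : X.QS) (h2 : l ≠ 2) (hp : l ≠ p) {f : ℕ} (h : Pi1 X f) (hf : l.Coprime f)
    (hL : Tor.Lev X l) : RK l ↥(GF F G) := fun M hM km =>
  rw_of_rcg hM (km _) (hS X hq l f M hl.out h2 hM hp h hf hL km)

theorem RK.of_equiv {H : Type} [Group H] [Finite H] (e : H ≃* S) (h : RK l H) : RK l S := fun M hM km =>
  RW.of_equiv hM e (h M hM km)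

section Fr

variable {C : ChevalleyDatum} {n : ℕ} {M : CoxeterMatrix (Fin n)} {hp : IsType C n M} {r : ℕ} [Fact r.Prime]
  {Mx : Matrix (Fin n) (Fin n) ℤ} {Adm : Matrix (Fin n) (Fin n) ℤ → Prop} {d f z : ℕ}

theorem rk_xs {k : Type} [Field k] [CharP k r] [IsAlgClosed k] {X : XF hp r k Mx} (s : XS X Adm d S) (hd : ¬ l ∣ d)
    (h : have := X.finite; RK l ↥(GF X.F ⊤)) : RK l S := fun I hI km =>
  have := X.finite
  have := s.ov.normal
  RW.of_equiv hI (MonoidHom.ofInjective s.ov.hom_inj).symm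
    (rw_index hI _ (fun e => hd (s.ov.prime_dvd Fact.out e)) (h I hI km))

theorem row_xs (hS : SI) {k : Type} [Field k] [CharP k r] [IsAlgClosed k] {X : XF hp r k Mx} (s : XS X Adm 1 S)
    (h2 : l ≠ 2) (hr : l ≠ r) (hP : PM C n f) (hf : l.Coprime f) (hL : Sc.LX hp l) (hZ : TO.X.ZD 1 S) : RRow l S :=
  have := X.finite
  rrow_zd hZ (rk_xs s not_dvd_one' (hS.rk X.D_qs h2 hr (pi1 X hP) hf (hL r k Mx X)))

theorem row_nt (hS : SI) (h : Nt.HasNT hp r Mx 1 S) (h2 : l ≠ 2) (hr : l ≠ r) (hP : PM C n f) (hf : l.Coprime f)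
    (hL : Sc.LX hp l) (hZ : TO.X.ZD 1 S) : RRow l S := by
  obtain ⟨k, _, _, _, X, -, ⟨s⟩⟩ := h
  exact row_xs hS s h2 hr hP hf hL hZ

theorem row_sc (hS : SI) (h : Sc.HasSc hp r Mx Adm z d S) (h2 : l ≠ 2) (hr : l ≠ r) (hz : l.Coprime z) {A : Type}
    [CommGroup A] (hA : HasSchurMultiplier S A) (hrA : ¬ r ∣ Nat.card A) (hL : Sc.LX hp l) : RRow l S := by
  obtain ⟨k, _, _, _, X, t, -, Y, _, N, _, _, ρ, F, X', θ, s, ⟨I⟩, -, h3⟩ := h
  have := X'.amb.finite_GF ⊤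
  exact rrow_sc s.π (I.not_dvd s h3 hl.out hz) s.cov hA hrA
    (hS.rk s.qs h2 hr s.pi1 (Nat.coprime_one_right l) (I.lev hz (hL r k Mx X)))

end Fr

theorem fin_chev {C : ChevalleyDatum} {F : Type} [Field F] [Fintype F] : Finite ↥(C.group F) :=
  have : Finite (GL C.Idx F) := inferInstance
  inferInstance

theorem small_g2 (h5 : 5 ≤ l) {F : Type} [Field F] [Fintype F] (h : Fintype.card F = 3 ∨ Fintype.card F = 4) :
    ¬ l ^ 3 ∣ Nat.card ↥(chevG2.group F) := h.elim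
  (fun h => not_cube h5 6 6 (m := 91) (S1059.result h) (by decide) [7, 13] rfl (by decide))
  fun h => not_cube h5 12 3 (m := 2275) (S1059.result h) (by decide) [5, 5, 7, 13] rfl (by decide)

variable (hS : SI)
include hS

/-- `G₂(q)`, `l ≥ 5` -/
theorem g2_ge (h5 : 5 ≤ l) (h : CG2 l S) : RRow l S := by
  obtain ⟨r, e, _, hr, -, -, h1⟩ := Nt.row_G2 h
  obtain ⟨F, _, _, -, h3, ⟨i⟩⟩ := h
  by_cases h4 : 5 ≤ Fintype.card F
  · exact row_nt hS h1 (by omega) hr pm_G2 (Nat.coprime_one_right l) (fun _ _ _ _ _ _ _ X => lev_G2 X hl.out h5)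
      ((TO.X.zd_G2 h4).congr i)
  · exact rrow_cube (Nat.card_congr i.toEquiv ▸ small_g2 h5 (by omega))

/-- **`³D₄(q)`** -/
theorem row_td4 : RRowFor CTd4 := fun l hl h2 S _ _ _ _ h => by
  obtain ⟨r, e, _, hr, -, h1⟩ := Nt.row_3D4 h
  obtain ⟨F, _, _, q, -, hq, hF, ⟨i⟩⟩ := h
  exact row_nt hS h1 h2 hr pm_D4 ((Nat.coprime_primes hl.out Nat.prime_two).2 h2)
    (fun _ _ _ _ _ _ _ X => lev_D4 X hl.out (by have := hl.out.two_le; omega)) ((TO.X.zd_3D4 hq hF).congr i)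

/-- `F₄(q)`, `l ≥ 5` -/
theorem f4_ge (h5 : 5 ≤ l) (h : CF4 l S) : RRow l S := by
  obtain ⟨r, e, _, hr, -, h1⟩ := Nt.row_F4 h
  obtain ⟨F, _, _, -, ⟨i⟩⟩ := h
  by_cases h4 : Fintype.card F = 2
  · exact rrow_cube (Nat.card_congr i.toEquiv ▸
      not_cube h5 24 6 (m := 270725) (S1062.result h4) (by decide) [5, 5, 7, 7, 13, 17] rfl (by decide))
  · exact row_nt hS h1 (by omega) hr pm_F4 (Nat.coprime_one_right l) (fun _ _ _ _ _ _ _ X => lev_F4 X hl.out h5)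
      ((TO.X.zd_F4 h4).congr i)

/-- `²F₄(q)`, `l ≥ 5` -/
theorem tf4_ge (h5 : 5 ≤ l) (h : CTf4 l S) : RRow l S := by
  obtain ⟨m, -, k, _, _, _, X, -, ⟨s⟩⟩ := Nt.row_2F4 h.2
  exact row_xs hS s h.1 h.1 pm_F4 (Nat.coprime_one_right l) (fun _ _ _ _ _ _ _ X => lev_F4 X hl.out h5)
    (TO.X.zd_iso2F4 h.2)

/-- `E₈(q)`, `l ≥ 7` -/
theorem e8_ge (h7 : 7 ≤ l) (h : CE8 l S) : RRow l S := by
  obtain ⟨r, e, _, hr, -, h1⟩ := Nt.row_E8 h
  obtain ⟨F, _, _, -, ⟨i⟩⟩ := h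
  exact row_nt hS h1 (by omega) hr pm_E8 (Nat.coprime_one_right l) (fun _ _ _ _ _ _ _ X => lev_E8 X hl.out h7)
    (TO.X.zd_E8.congr i)

/-- `E₆(q)`, `l ≥ 5` -/
theorem e6_ge (h5 : 5 ≤ l) (h : CE6 l S) : RRow l S := by
  obtain ⟨F, _, _, h1, ⟨i⟩⟩ := h
  obtain ⟨r, e, _, _, hr, he, hF⟩ := Nt.exists_char F h1
  have := fin_chev (C := chevE6) (F := F)
  exact RRow.of_equiv i (row_sc hS (Sc.hasSc_E6 Dat.boxDat2 hF) (by omega) hr
    ((Nat.coprime_primes hl.out Nat.prime_three).2 (by omega)) (S2105.result hF) (Sc.not_dvd_sub Fact.out he 3)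
    fun _ _ _ _ _ _ _ X => lev_E6 X hl.out h5)

/-- `E₇(q)`, `l ≥ 5` -/
theorem e7_ge (h5 : 5 ≤ l) (h : CE7 l S) : RRow l S := by
  obtain ⟨F, _, _, h1, ⟨i⟩⟩ := h
  obtain ⟨r, e, _, _, hr, he, hF⟩ := Nt.exists_char F h1
  have := fin_chev (C := chevE7) (F := F)
  exact RRow.of_equiv i (row_sc hS (Sc.hasSc_E7 Dat.boxDat2 hF) (by omega) hr
    ((Nat.coprime_primes hl.out Nat.prime_two).2 (by omega)) (S2106.result hF) (Sc.not_dvd_sub Fact.out he 2)
    fun _ _ _ _ _ _ _ X => lev_E7 X hl.out h5)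

/-- `²E₆(q)`, `l ≥ 5` -/
theorem te6_ge (h5 : 5 ≤ l) (h : CTe6 l S) : RRow l S := by
  obtain ⟨F, _, _, q, h1, hq, hF, ⟨i⟩⟩ := h
  obtain ⟨r, e, _, _, hr, he, rfl⟩ := Nt.exists_char' F h1 hq two_ne_zero hF
  have := Finite.of_equiv _ i.toEquiv
  refine RRow.of_equiv i ?_
  by_cases h2 : r ^ e = 2
  · rw [h2] at hF ⊢
    rw [h2] at this
    exact rrow_cube (Sc.small_2E6 hF hl.out (by omega) (by omega))
  exact row_sc hS (Sc.hasSc_2E6 Dat.boxDat2 hF) (by omega) hr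
    ((Nat.coprime_primes hl.out Nat.prime_three).2 (by omega)) (S2108.result hq hF h2) (Sc.not_dvd_add Fact.out he 3)
    fun _ _ _ _ _ _ _ X => lev_E6 X hl.out h5

/-! ### type `A` -/

section A

open Cfsg.Agent.ODD.C2 Cfsg.Agent.ODD.C2.GlA Cfsg.Agent.KZ.Dat

variable {F : Type} [Field F] [Fintype F]

theorem rk_GL (h2 : l ≠ 2) (h : (l : F) ≠ 0) (n : ℕ) : RK l (GL (Fin (n + 1)) F) := by
  obtain ⟨p, _, e, k, _, _, _, f, hk, he, hF⟩ := hasL F
  have := (datL n hk he).amb.finite_GF (GA n k)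
  exact RK.of_equiv (eqvL f hF).symm (hS.rk (datL_qs n hk he) h2 (A.ne_of_cast f h) (A.pi1_A hk he _)
    (Nat.coprime_one_right l) (A.lev_A hk he _ l))

theorem rk_GU (h2 : l ≠ 2) (h : (l : F) ≠ 0) (n : ℕ) {q : ℕ} (hq : Fintype.card F = q ^ 2) : RK l (GU (n + 1) F q) := by
  obtain ⟨p, _, e, k, _, _, _, f, hk, he, rfl⟩ := hasU F hq
  have := (datU n hk he).amb.finite_GF (GA n k)
  exact RK.of_equiv (eqvU f hk he hq).symm (hS.rk (datU_qs n hk he) h2 (A.ne_of_cast f h) (A.pi1_A hk he _)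
    (Nat.coprime_one_right l) (A.lev_A hk he _ l))

omit hS in
theorem not_dvd_index {H : Type} [Group H] [Finite H] {N : Subgroup H} [N.Normal] {a b : ℕ} (ha : ∀ g, g ^ a ∈ N)
    (hb : ∀ g, g ^ b ∈ N) (h : ¬ l ∣ Nat.gcd a b) : ¬ l ∣ N.index := fun e => by
  obtain ⟨x, hx⟩ := exists_prime_orderOf_dvd_card' (G := H ⧸ N) l e
  obtain ⟨g, rfl⟩ := QuotientGroup.mk_surjective x
  exact h (hx ▸ Nat.dvd_gcd (orderOf_dvd_of_pow_eq_one ((QuotientGroup.eq_one_iff _).2 (ha g)))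
    (orderOf_dvd_of_pow_eq_one ((QuotientGroup.eq_one_iff _).2 (hb g))))

theorem rk_SL (h2 : l ≠ 2) (h : (l : F) ≠ 0) (n : ℕ) (hg : ¬ l ∣ Nat.gcd (n + 1) (Fintype.card F - 1)) :
    RK l (SpecialLinearGroup (Fin (n + 1)) F) := fun M hM km => by
  have : (SpecialLinearGroup.toGL : SpecialLinearGroup (Fin (n + 1)) F →* _).range.Normal := by
    rw [A.range_SL]; infer_instance
  refine rw_inj hM km _ SpecialLinearGroup.toGL_injective (not_dvd_index (fun g => ?_) (fun g => ?_) hg)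
    (rk_GL hS h2 h n M hM km)
  · rw [← inv_mul_cancel_right (g ^ (n + 1)) (A.sc F _ (GeneralLinearGroup.det g))]
    refine Subgroup.mul_mem_sup ?_ (Subgroup.mem_center_iff.2 fun x => (A.sc_comm _ x).eq.symm)
    rw [A.range_SL, MonoidHom.mem_ker, map_mul, map_pow, map_inv, mul_inv_eq_one]
    ext
    simp [A.sc, Matrix.algebraMap_eq_diagonal]
  · refine Subgroup.mem_sup_left ?_
    rw [A.range_SL, MonoidHom.mem_ker, map_pow, ← Nat.card_eq_fintype_card, ← Nat.card_units, pow_card_eq_one']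

theorem rk_SU (h2 : l ≠ 2) (h : (l : F) ≠ 0) {n q : ℕ} (hq : Fintype.card F = q ^ 2) (hn : 1 ≤ n)
    (hg : ¬ l ∣ Nat.gcd (n + 1) (q + 1)) : RK l (SU (n + 1) F q) := fun M hM km => by
  let ι : SU (n + 1) F q →* GU (n + 1) F q :=
    (SpecialLinearGroup.toGL.comp (SU (n + 1) F q).subtype).codRestrict _ fun x => x.2
  have h1 : ι.range = (GeneralLinearGroup.det : GL (Fin (n + 1)) F →* Fˣ).ker.subgroupOf (GU (n + 1) F q) := by
    ext g
    exact ⟨fun ⟨y, hy⟩ => hy ▸ Units.ext y.1.2,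
      fun h => ⟨⟨⟨g.1, congrArg Units.val h⟩, g.2⟩, Subtype.ext (Units.ext rfl)⟩⟩
  have : ι.range.Normal := h1 ▸ inferInstance
  obtain ⟨φ, h3, h4⟩ := S0783.result hq (n + 1) (by omega)
  refine rw_inj hM km ι (fun x y e => Subtype.ext (SpecialLinearGroup.toGL_injective (congrArg Subtype.val e))) ?_
    (rk_GU hS h2 h n hq M hM km)
  rwa [h1, ← h4, Subgroup.index_ker, MonoidHom.range_eq_top.2 h3, Subgroup.card_top, BHZ.Nil.card_mult_zmod]

omit hS in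
theorem small {N : ℕ} (h2 : l ≠ 2) (i j m : ℕ) (h : N = 2 ^ i * (3 ^ j * m)) (hm : m ∣ 385) (h3 : l = 3 → j ≤ 3) :
    ¬ l ^ 4 ∣ N := fun e => by
  have h4 := (((Nat.coprime_primes hl.out Nat.prime_two).2 h2).pow 4 i).dvd_of_dvd_mul_left (h ▸ e)
  by_cases e3 : l = 3
  · have h5 := h3 e3
    subst e3
    have h6 := (Nat.Coprime.coprime_dvd_right hm (by norm_num : (3 ^ 4).Coprime 385)).dvd_of_dvd_mul_right h4
    have := (Nat.pow_dvd_pow_iff_le_right (by norm_num)).1 h6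
    omega
  have h5 := ((((Nat.coprime_primes hl.out Nat.prime_three).2 e3).pow 4 j).dvd_of_dvd_mul_left h4).trans hm
  have h6 : l < 5 := lt_of_pow_lt_pow_left₀ 4 (by norm_num) ((Nat.le_of_dvd (by norm_num) h5).trans_lt (by norm_num))
  rcases odd_cases h2 with h | h <;> omega

/-- **`L_n(q)`, `l ∤ (n, q - 1)`** -/
theorem psl_good (h2 : l ≠ 2) {n : ℕ} (hF : (l : F) ≠ 0) (hn : 2 ≤ n) (h4 : n = 2 → 4 ≤ Fintype.card F)
    (hg : ¬ l ∣ Nat.gcd n (Fintype.card F - 1)) : RRow l (ProjectiveSpecialLinearGroup (Fin n) F) := by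
  have h1 := S0243.result (F := F) rfl n hn
  by_cases hexc : (n, Fintype.card F) ∈ ({(2, 4), (2, 9), (3, 2), (3, 4), (4, 2)} : Set (ℕ × ℕ))
  · simp only [Set.mem_insert_iff, Set.mem_singleton_iff, Prod.mk.injEq] at hexc
    refine rrow_of_card ?_
    rcases hexc with ⟨rfl, h⟩ | ⟨rfl, h⟩ | ⟨rfl, h⟩ | ⟨rfl, h⟩ | ⟨rfl, h⟩ <;> rw [h] at h1 <;>
      norm_num [Fin.prod_univ_succ] at h1
    · exact small h2 2 1 5 (by omega) (by norm_num) (by norm_num)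
    · exact small h2 3 2 5 (by omega) (by norm_num) (by norm_num)
    · exact small h2 3 1 7 (by omega) (by norm_num) (by norm_num)
    · exact small h2 6 2 35 (by omega) (by norm_num) (by norm_num)
    · exact small h2 6 2 35 (by omega) (by norm_num) (by norm_num)
  obtain ⟨n, rfl⟩ : ∃ m, n = m + 1 := ⟨n - 1, by omega⟩
  have h3 : Nat.card (QuotientGroup.mk' (Subgroup.center (SpecialLinearGroup (Fin (n + 1)) F))).ker =
      Nat.gcd (n + 1) (Fintype.card F - 1) := by rw [QuotientGroup.ker_mk', S0280.card_center_SL n.succ_pos]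
  refine rrow_mult (QuotientGroup.mk' _) (QuotientGroup.mk'_surjective _) (QuotientGroup.ker_mk' _).le ?_ (h3 ▸ hg)
    (S2086.result rfl _ hn h4 hexc) (by rw [h3, BHZ.Nil.card_mult_zmod]) (rk_SL hS h2 hF n hg)
  rcases hn.eq_or_lt with h | h
  · obtain rfl : n = 1 := by omega
    exact H259.NatMod.commutator_eq_top (h4 rfl)
  · exact S0248.result _ h

/-- **`U_n(q)`, `l ∤ (n, q + 1)`**; `U₄(2) ≅ S₄(3)` comes from the row in the defining characteristic -/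
theorem psu_good (lie : RRowFor CLie) (h2 : l ≠ 2) [IsSimpleGroup S] (hn' : ¬ IsMulCommutative S) {n q : ℕ}
    (hF : (l : F) ≠ 0) (hq : Fintype.card F = q ^ 2) (hn : 3 ≤ n) (h4 : ¬ (n = 3 ∧ q = 2))
    (hg : ¬ l ∣ Nat.gcd n (q + 1)) (e : S ≃* PSU n F q) : RRow l S := by
  have h1 := BHZ.Nil.not_dvd_card hF
  have h0 := S0280.result hq n (by omega)
  have h5 := Nat.card_congr e.toEquiv
  by_cases hexc : (n, q) ∈ ({(4, 2), (4, 3), (6, 2)} : Set (ℕ × ℕ))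
  · simp only [Set.mem_insert_iff, Set.mem_singleton_iff, Prod.mk.injEq] at hexc
    rw [hq] at h1
    rcases hexc with ⟨rfl, rfl⟩ | ⟨rfl, rfl⟩ | ⟨rfl, rfl⟩ <;> norm_num [Finset.prod_range_succ, Nat.even_iff] at h0
    · by_cases h3 : l = 3
      · subst h3
        obtain ⟨e'⟩ := S0822.result (F := F) (K := ZMod 3) hq (by simp)
        exact lie 3 h2 S hn' (Or.inr (Or.inl ⟨ZMod 3, inferInstance, inferInstance, inferInstance, 2, le_rfl,
          fun _ => by simp, ⟨e.trans e'⟩⟩))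
      · exact rrow_of_card (small h2 6 4 5 (by omega) (by norm_num) fun h => absurd h h3)
    · exact rrow_of_card (small h2 7 6 35 (by omega) (by norm_num) fun h => absurd (by norm_num [h]) h1)
    · exact rrow_of_card (small h2 15 6 385 (by omega) (by norm_num) fun h => absurd (by norm_num [h]) hg)
  obtain ⟨n, rfl⟩ : ∃ m, n = m + 1 := ⟨n - 1, by omega⟩
  have h3 : Nat.card (QuotientGroup.mk' (Subgroup.center (SU (n + 1) F q))).ker = Nat.gcd (n + 1) (q + 1) := by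
    rw [QuotientGroup.ker_mk', S0279.result hq _ hn]
  exact RRow.of_equiv e (rrow_mult (QuotientGroup.mk' _) (QuotientGroup.mk'_surjective _) (QuotientGroup.ker_mk' _).le
    (LieClassical.HermPerfect.commutator_SU_eq_top hq hn h4) (h3 ▸ hg) (S2089.result _ q hq hn h4 hexc)
    (by rw [h3, BHZ.Nil.card_mult_zmod]) (rk_SU hS h2 hF hq (by omega) hg))

end A

end Cfsg.Agent.RC.D2
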