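import Cfsg.Agent.KM.Mu.Rows
import Cfsg.Agent.KM.Tr
import Cfsg.Agent.TO.X.Mult

/-!
# RC (S4576): transfer of Robinson's inequality (helper90)

* `rw_index`, `rcg_center`, `rw_norm`, `rw_inj` : normal subgroups of index prime to `l` modulo the centre;
* `rrow_of`, `rrow_zd`, `rrow_mult`, `rrow_sc` : rows from a covering group.
-/

set_option autoImplicit false
set_option linter.unusedSectionVars false

namespace Cfsg.Agent.RC.D2

open Cfsg Cfsg.Agent.Blocks Cfsg.Agent.KM Cfsg.Agent.KM.BK Cfsg.Agent.KM.Mu Cfsg.Agent.TID.Red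

variable {l : ℕ} [hl : Fact l.Prime] {M : Ideal AlgInt} {H : Type} [Group H] [Finite H]

/-- **index prime to `l`** -/
theorem rw_index (hM : IsPModular l M) (N : Subgroup H) [N.Normal] (hi : ¬ l ∣ N.index) (h : RW l M H) : RW l M N := by
  intro b D hb hD θ hθ
  obtain ⟨B, P, hB, hP, h1, h2⟩ := up_norm hM N hb hD
  rw [inf_eq_left.2 (le_of_index hi (H592.Defect.isPGroup_of_isDefectGroup hP))] at h1
  obtain ⟨χ, h3, h4⟩ := h2 θ hθ
  have h5 := fac_mul (p := l) N.card_mul_index Nat.card_pos.ne'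
  rw [Nat.factorization_eq_zero_of_not_dvd hi] at h5
  have h6 : df l θ = df l χ := by
    have := df_add (p := l) θ
    have := df_add (p := l) χ
    have := nu_of_index hi χ θ h4
    omega
  exact h6 ▸ Sm.of_map N.subtype_injective (h1 ▸ h B P hB hP χ h3)

/-- **supplements of the centre** -/
theorem rcg_center (hM : IsPModular l M) (N : Subgroup H) (hN : N ⊔ Subgroup.center H = ⊤) (h : RW l M H) :
    RCg l M N := by
  intro b D hb hD ha θ hθ
  have := normal_of_sup_center hN
  obtain ⟨B, P, hB, hP, h1, h2⟩ := up_norm hM N hb hD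
  obtain ⟨χ, h3, h4⟩ := h2 θ hθ
  refine (rob_iff fun e => ha (ab_iff.1 e)).2 fun W hW _ => ?_
  have hW' := hW.map N.subtype
  rw [← h1] at hW'
  set V := W.map N.subtype with hV
  have hc : ∀ z ∈ P ⊓ Subgroup.center H, ∀ g, z * g = g * z := fun z hz g => (Subgroup.mem_center_iff.1 hz.2 g).symm
  have k1 : ∀ w ∈ V ⊔ (P ⊓ Subgroup.center H), ∀ d ∈ P, w * d = d * w := fun w hw d hd => by
    refine (sup_le (fun v hv => ?_) (fun z hz => ?_) : _ ≤ Subgroup.centralizer {d}) hw d rfl |>.symm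
    · obtain ⟨a, ha, z, hz, rfl⟩ := exists_cen hN hP hd
      rintro _ rfl
      rw [mul_assoc, ← Subgroup.mem_center_iff.1 hz v, ← mul_assoc, ← hW'.2 v hv a ha, mul_assoc]
    · rintro _ rfl
      exact (hc z hz _).symm
  have k2 := h B P hB hP χ h3 _ ⟨sup_le (hW'.1.trans inf_le_left) inf_le_left, k1⟩ fun e => ha ⟨⟨fun x y => by
    have hx : (x : N).1 ∈ P := (h1.ge ⟨x, x.2, rfl⟩).1
    have hy : (y : N).1 ∈ P := (h1.ge ⟨y, y.2, rfl⟩).1
    exact Subtype.ext (Subtype.ext (k1 _ (e.ge hx) _ hy))⟩⟩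
  have k3 := fac_sup (p := l) (K := V) (C := P ⊓ Subgroup.center H) fun z hz g _ => (hc z hz g).symm
  have k4 := fac_sup (p := l) (K := N) (C := Subgroup.center H) (Subgroup.center_le_centralizer _)
  rw [hN, Subgroup.card_top] at k4
  have k5 := fac_inf_central hM hB hP (le_refl (Subgroup.center H))
  have k6 := fac_mono (p := l) (inf_le_inf (hW'.1.trans inf_le_right) inf_le_right :
    V ⊓ (P ⊓ Subgroup.center H) ≤ N ⊓ Subgroup.center H)
  have k7 : Nat.card V = Nat.card W := Subgroup.card_map_of_injective N.subtype_injective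
  have := df_add (p := l) θ
  have := df_add (p := l) χ
  have := nu_of_center (l := l) hN χ θ h4
  rw [k7] at k3
  omega

theorem rw_norm (hM : IsPModular l M) (km : ∀ (X : Type) [Group X] [Finite X], KMg l M X) (N : Subgroup H) [N.Normal]
    (hi : ¬ l ∣ (N ⊔ Subgroup.center H).index) (h : RW l M H) : RW l M N := by
  refine RW.of_equiv hM (Subgroup.subgroupOfEquivOfLe (le_sup_left : N ≤ N ⊔ Subgroup.center H))
    (rw_of_rcg hM (km _) (rcg_center hM _ (top_le_iff.1 fun x _ => ?_) (rw_index hM _ hi h)))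
  obtain ⟨a, ha, z, hz, h1⟩ := Subgroup.mem_sup_of_normal_right.1 x.2
  rw [show x = ⟨a, Subgroup.mem_sup_left ha⟩ * ⟨z, Subgroup.mem_sup_right hz⟩ from Subtype.ext h1.symm]
  exact Subgroup.mul_mem_sup ha (Subgroup.mem_center_iff.2 fun g => Subtype.ext (Subgroup.mem_center_iff.1 hz g))

theorem rw_inj (hM : IsPModular l M) (km : ∀ (X : Type) [Group X] [Finite X], KMg l M X) {K : Type} [Group K] [Finite K]
    (ι : K →* H) (hι : Function.Injective ι) [ι.range.Normal] (hi : ¬ l ∣ (ι.range ⊔ Subgroup.center H).index)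
    (h : RW l M H) : RW l M K := RW.of_equiv hM (MonoidHom.ofInjective hι).symm (rw_norm hM km _ hi h)

variable (l H) in
/-- Robinson's inequality for `H`, the theorem of Kessar and Malle being available -/
def RK : Prop := ∀ M : Ideal AlgInt, IsPModular l M → (∀ (X : Type) [Group X] [Finite X], KMg l M X) → RW l M H

variable {S : Type} [Group S]

/-- a row from a group which maps onto all covers -/
theorem rrow_of (h : RK l H) (hc : ∀ (K : Type) [Group K] [Finite K] (σ : K →* S), IsQuasisimple K →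
    Function.Surjective σ → σ.ker = Subgroup.center K → IsCyclic (Subgroup.center K) →
    ∃ ψ : H →* K, Function.Surjective ψ ∧ ¬ l ∣ Nat.card ψ.ker) : RRow l S := fun K _ _ σ M B D χ R => by
  obtain ⟨ψ, h1, h2⟩ := hc K σ R.qs R.surj R.ker R.cyc
  exact (rw_quot R.hM ψ h1 h2 (h M R.hM R.km)).rcg B D R.hB R.hD R.na χ R.mem

/-- trivial multiplier -/
theorem rrow_zd (hZ : TO.X.ZD 1 H) (h : RK l H) : RRow l H := rrow_of h fun K _ _ σ h1 h2 h3 h4 => by
  let e := MulEquiv.ofBijective σ ⟨(MonoidHom.ker_eq_bot_iff σ).1 (h3.trans (Subgroup.card_eq_one.1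
    (Nat.dvd_one.1 (hZ K σ h1.1.commutator_eq_top h2 h3 h4)))), h2⟩
  refine ⟨e.symm.toMonoidHom, e.symm.surjective, ?_⟩
  rw [(MonoidHom.ker_eq_bot_iff _).2 e.symm.injective, Subgroup.card_bot]
  exact hl.out.not_dvd_one

/-- the universal cover with kernel of order prime to `l` -/
theorem rrow_mult (π : H →* S) (hπ : Function.Surjective π) (hc : π.ker ≤ Subgroup.center H) (hH : commutator H = ⊤)
    (hk : ¬ l ∣ Nat.card π.ker) {A : Type} [CommGroup A] (hA : HasSchurMultiplier S A) (hd : Nat.card A ∣ Nat.card π.ker)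
    (h : RK l H) : RRow l S := rrow_of h fun K _ _ σ h1 h2 h3 _ => by
  obtain ⟨ψ, h4, h5⟩ := cover_of_mult (l := l) (a := 0) (by
      rw [commutator_def, ← MonoidHom.range_eq_top.2 hπ, MonoidHom.range_eq_map, ← Subgroup.map_commutator,
        ← commutator_def, hH]) hA (H95.StemCover.isStem hH hπ hc)
    (H95.StemCover.isStem h1.1.commutator_eq_top h2 h3.le) hk
    (fun e => hk (e.trans ((H95.StemCover.card_ker_dvd hA h1.1.commutator_eq_top σ h2 h3.le).trans hd)))
    (by rwa [pow_zero, mul_one])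
  exact ⟨ψ, h4, fun e => hk (e.trans (Subgroup.card_dvd_of_le (ker_le_of h5)))⟩

/-- a cover which dominates the covers with centre of order prime to `r` -/
theorem rrow_sc {r : ℕ} (π : H →* S) (hk : ¬ l ∣ Nat.card π.ker)
    (hc : ∀ (K : Type) [Group K] [Finite K], IsQuasisimple K → ¬ r ∣ Nat.card (Subgroup.center K) →
      ∀ e : (K ⧸ Subgroup.center K) ≃* S, ∃ ψ : H →* K, Function.Surjective ψ ∧ ∀ s, e (QuotientGroup.mk (ψ s)) = π s)
    {A : Type} [CommGroup A] (hA : HasSchurMultiplier S A) (hr : ¬ r ∣ Nat.card A) (h : RK l H) : RRow l S :=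
  rrow_of h fun K _ _ σ h1 h2 h3 _ => by
    have h4 := H95.StemCover.card_ker_dvd hA h1.1.commutator_eq_top σ h2 h3.le
    obtain ⟨ψ, h5, h6⟩ := hc K h1 (fun e => hr (e.trans (h3 ▸ h4)))
      ((QuotientGroup.quotientMulEquivOfEq h3.symm).trans (QuotientGroup.quotientKerEquivOfSurjective σ h2))
    exact ⟨ψ, h5, fun e => hk (e.trans (Subgroup.card_dvd_of_le (ker_le_of (σ := σ) h6)))⟩

theorem rrow_cube [Finite S] (h : ¬ l ^ 3 ∣ Nat.card S) : RRow l S :=
  rrow_of_card fun e => h ((pow_dvd_pow l (by omega)).trans e)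

end Cfsg.Agent.RC.D2
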