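import Cfsg.Agent.KM.Defs
import Cfsg.Agent.KM.Mu.Defs
import Cfsg.Agent.Blocks.Basic

/-!
# RC (S4576): the rows and the boxes of block theory (helper1)

* `ZD D` : the centre of `D` as a subgroup of the ambient group;
* `Hyp p M B D χ σ` : `p` is odd, `B` is a block of the cover `σ : K →* S` (cyclic centre, `p` may divide its order) with
  the non-abelian defect group `D`, `χ ∈ B` is faithful of positive height and `p ^ 2` divides `|σ (Z (D))|`; the
  theorem of Kessar and Malle and the statement for smaller groups are available;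
* `Row p S` : `Rob p D χ` holds in this situation; `RowFor C`, `Rows`, `Rows.known`, `Rows.one`;
* `BoxBF`, `BoxVal`, `BoxCT`, `BoxCnt3` : statements of block theory.
-/

set_option autoImplicit false

namespace Cfsg.Agent.RC

open Cfsg Cfsg.Agent.KM Cfsg.Agent.KM.Mu

/-- the centre of `D` in the ambient group -/
def ZD {G : Type*} [Group G] (D : Subgroup G) : Subgroup G := (Subgroup.center D).map D.subtype

theorem mem_ZD {G : Type*} [Group G] {D : Subgroup G} {z : G} : z ∈ ZD D ↔ z ∈ D ∧ ∀ d ∈ D, d * z = z * d := by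
  constructor
  · rintro ⟨x, hx, rfl⟩
    exact ⟨x.2, fun d hd => congrArg Subtype.val (Subgroup.mem_center_iff.1 hx ⟨d, hd⟩)⟩
  · rintro ⟨h1, h2⟩
    exact ⟨⟨z, h1⟩, Subgroup.mem_center_iff.2 fun d => Subtype.ext (h2 d d.2), rfl⟩

theorem card_ZD {G : Type*} [Group G] (D : Subgroup G) : Nat.card (ZD D) = Nat.card (Subgroup.center D) :=
  Subgroup.card_map_of_injective D.subtype_injective

/-- the hypothesis of the quasisimple case; `σ` is the quotient by the centre -/
structure Hyp (p : ℕ) (M : Ideal AlgInt) {K : Type} [Group K] (B : Set (IrrCharacter K)) (D : Subgroup K)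
    (χ : IrrCharacter K) {S : Type} [Group S] (σ : K →* S) : Prop where
  odd : p ≠ 2
  hM : IsPModular p M
  hB : IsPBlock M B
  hD : IsDefectGroup p M B D
  mem : χ ∈ B
  nab : ¬ IsMulCommutative D
  pos : 0 < blockHeight p B (χ : K → ℂ)
  big : p ^ 2 ∣ Nat.card ((ZD D).map σ)
  qs : IsQuasisimple K
  surj : Function.Surjective σ
  ker : σ.ker = Subgroup.center K
  cyc : IsCyclic (Subgroup.center K)
  faith : ∀ z ∈ Subgroup.center K, (χ : K → ℂ) z = (χ : K → ℂ) 1 → z = 1
  km : BK.KMp.{0} p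
  ih : ∀ (H : Type) [Group H] [Finite H], (Subgroup.center H).index < (Subgroup.center K).index → RCg p M H

/-- the statement for the covers of `S` -/
def Row (p : ℕ) (S : Type) [Group S] : Prop :=
  ∀ (K : Type) [Group K] [Finite K] (σ : K →* S) (M : Ideal AlgInt) (B : Set (IrrCharacter K)) (D : Subgroup K)
    (χ : IrrCharacter K), Hyp p M B D χ σ → Rob p D χ

theorem Hyp.congr {p : ℕ} {M : Ideal AlgInt} {K : Type} [Group K] {B : Set (IrrCharacter K)} {D : Subgroup K}
    {χ : IrrCharacter K} {S T : Type} [Group S] [Group T] {σ : K →* S} (H : Hyp p M B D χ σ) (e : S ≃* T) :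
    Hyp p M B D χ (e.toMonoidHom.comp σ) :=
  { H with
    big := by
      rw [← Subgroup.map_map, Subgroup.card_map_of_injective e.injective]
      exact H.big
    surj := e.surjective.comp H.surj
    ker := by
      rw [← H.ker]
      ext x
      simp [MonoidHom.mem_ker] }

/-- the central quotient -/
noncomputable def Hyp.equiv {p : ℕ} {M : Ideal AlgInt} {K : Type} [Group K] {B : Set (IrrCharacter K)} {D : Subgroup K}
    {χ : IrrCharacter K} {S : Type} [Group S] {σ : K →* S} (H : Hyp p M B D χ σ) : K ⧸ Subgroup.center K ≃* S :=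
  (QuotientGroup.quotientMulEquivOfEq H.ker.symm).trans (QuotientGroup.quotientKerEquivOfSurjective σ H.surj)

theorem Row.of_equiv {p : ℕ} {S T : Type} [Group S] [Group T] (e : S ≃* T) (h : Row p T) : Row p S :=
  fun K _ _ _ M B D χ H => h K _ M B D χ (H.congr e)

/-- a row from `RCg` for all covers -/
theorem Row.of_rcg {p : ℕ} {S : Type} [Group S]
    (h : ∀ (K : Type) [Group K] [Finite K] (σ : K →* S) (M : Ideal AlgInt), IsPModular p M → IsQuasisimple K →
      Function.Surjective σ → σ.ker = Subgroup.center K → RCg p M K) :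
    Row p S := fun K _ _ σ M B D χ H => h K σ M H.hM H.qs H.surj H.ker B D H.hB H.hD H.nab χ H.mem

/-- the statement for the nonabelian simple groups with the property `C p`, `p` odd -/
def RowFor (C : ℕ → ∀ (S : Type) [Group S], Prop) : Prop :=
  ∀ (p : ℕ) [Fact p.Prime] (S : Type) [Group S] [Finite S] [IsSimpleGroup S],
    ¬ IsMulCommutative S → p ≠ 2 → C p S → Row p S

/-- the rows; all the rows of Lie type except `lie` are in cross characteristic -/
structure Rows : Prop where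
  alt : RowFor CAlt
  lie : RowFor CLie
  psl : RowFor CPsl
  psp : RowFor CPsp
  psu : RowFor CPsu
  oodd : RowFor COdd
  oplus : RowFor CPlus
  ominus : RowFor CMinus
  g2 : RowFor CG2
  f4 : RowFor CF4
  e6 : RowFor CE6
  e7 : RowFor CE7
  e8 : RowFor CE8
  te6 : RowFor CTe6
  td4 : RowFor CTd4
  sz : RowFor CSz
  ree : RowFor CRee
  tf4 : RowFor CTf4
  tits : RowFor CTits
  spor : RowFor CSpor

/-- the assembly over the known simple groups -/
theorem Rows.known (R : Rows) : RowFor (fun _ S _ => IsKnownSimple' S) := by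
  intro p _ S _ _ _ hS ho hC
  have lie : IsLieTypeChar p S → Row p S := fun h => R.lie p S hS ho h
  have exc : IsExceptionalChevChar p S → Row p S := fun h =>
    lie (Or.inr (Or.inr (Or.inr (Or.inr (Or.inr (Or.inr (Or.inl h)))))))
  have tw : IsTwistedE6D4Char p S → Row p S := fun h =>
    lie (Or.inr (Or.inr (Or.inr (Or.inr (Or.inr (Or.inr (Or.inr (Or.inl h))))))))
  rcases hC with h | h | h | h | h | h | h | h | h | h
  · exfalso
    apply hS
    have : Fact (Nat.card S).Prime := ⟨h⟩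
    have := isCyclic_of_prime_card (p := Nat.card S) (α := S) rfl
    exact ⟨⟨fun a b => (IsCyclic.commGroup (α := S)).mul_comm a b⟩⟩
  · exact R.alt p S hS ho h
  · obtain ⟨F, iF, iN, n, hn, hn2, he⟩ := h
    by_cases hF : (p : F) = 0
    · exact lie (Or.inl ⟨F, iF, iN, charP_of_cast hF, n, hn, hn2, he⟩)
    · exact R.psl p S hS ho ⟨F, iF, iN, n, hF, hn, hn2, he⟩
  · obtain ⟨F, iF, iN, n, hn, hn2, he⟩ := h
    by_cases hF : (p : F) = 0
    · exact lie (Or.inr (Or.inl ⟨F, iF, iN, charP_of_cast hF, n, hn, hn2, he⟩))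
    · exact R.psp p S hS ho ⟨F, iF, iN, n, hF, hn, hn2, he⟩
  · obtain ⟨F, iF, iN, n, q, hq, hn, hn2, he⟩ := h
    by_cases hF : (p : F) = 0
    · exact lie (Or.inr (Or.inr (Or.inl ⟨F, iF, iN, charP_of_cast hF, n, q, hq, hn, hn2, he⟩)))
    · exact R.psu p S hS ho ⟨F, iF, iN, n, q, hF, hq, hn, hn2, he⟩
  · obtain ⟨F, iF, iN, m, hm, hodd, he⟩ := h
    by_cases hF : (p : F) = 0
    · exact lie (Or.inr (Or.inr (Or.inr (Or.inl ⟨F, iF, iN, charP_of_cast hF, m, hm, hodd, he⟩))))
    · exact R.oodd p S hS ho ⟨F, iF, iN, m, hF, hm, hodd, he⟩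
  · obtain ⟨F, iF, iN, m, hm, he⟩ := h
    by_cases hF : (p : F) = 0
    · exact lie (Or.inr (Or.inr (Or.inr (Or.inr (Or.inl ⟨F, iF, iN, charP_of_cast hF, m, hm, he⟩)))))
    · exact R.oplus p S hS ho ⟨F, iF, iN, m, hF, hm, he⟩
  · obtain ⟨F, iF, iN, m, a, b, hm, hab, he⟩ := h
    by_cases hF : (p : F) = 0
    · exact lie (Or.inr (Or.inr (Or.inr (Or.inr (Or.inr (Or.inl
        ⟨F, iF, iN, charP_of_cast hF, m, a, b, hm, hab, he⟩))))))
    · exact R.ominus p S hS ho ⟨F, iF, iN, m, a, b, hF, hm, hab, he⟩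
  · rcases h with h | h | h | h | h | h | h | h | h | h | h
    · obtain ⟨F, iF, iN, h3, he⟩ := h
      by_cases hF : (p : F) = 0
      · exact exc ⟨F, iF, iN, charP_of_cast hF, Or.inl ⟨h3, he⟩⟩
      · exact R.g2 p S hS ho ⟨F, iF, iN, hF, h3, he⟩
    · obtain ⟨F, iF, iN, he⟩ := h
      by_cases hF : (p : F) = 0
      · exact exc ⟨F, iF, iN, charP_of_cast hF, Or.inr (Or.inl he)⟩
      · exact R.f4 p S hS ho ⟨F, iF, iN, hF, he⟩
    · obtain ⟨F, iF, iN, he⟩ := h
      by_cases hF : (p : F) = 0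
      · exact exc ⟨F, iF, iN, charP_of_cast hF, Or.inr (Or.inr (Or.inl he))⟩
      · exact R.e6 p S hS ho ⟨F, iF, iN, hF, he⟩
    · obtain ⟨F, iF, iN, he⟩ := h
      by_cases hF : (p : F) = 0
      · exact exc ⟨F, iF, iN, charP_of_cast hF, Or.inr (Or.inr (Or.inr (Or.inl he)))⟩
      · exact R.e7 p S hS ho ⟨F, iF, iN, hF, he⟩
    · obtain ⟨F, iF, iN, he⟩ := h
      by_cases hF : (p : F) = 0
      · exact exc ⟨F, iF, iN, charP_of_cast hF, Or.inr (Or.inr (Or.inr (Or.inr he)))⟩
      · exact R.e8 p S hS ho ⟨F, iF, iN, hF, he⟩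
    · obtain ⟨K, iF, iN, q, hq, hK, he⟩ := h
      by_cases hF : (p : K) = 0
      · exact tw ⟨K, iF, iN, charP_of_cast hF, q, hq, Or.inl ⟨hK, he⟩⟩
      · exact R.te6 p S hS ho ⟨K, iF, iN, q, hF, hq, hK, he⟩
    · obtain ⟨K, iF, iN, q, hq, hK, he⟩ := h
      by_cases hF : (p : K) = 0
      · exact tw ⟨K, iF, iN, charP_of_cast hF, q, hq, Or.inr ⟨hK, he⟩⟩
      · exact R.td4 p S hS ho ⟨K, iF, iN, q, hF, hq, hK, he⟩
    · by_cases hp2 : p = 2
      · exact lie (Or.inr (Or.inr (Or.inr (Or.inr (Or.inr (Or.inr (Or.inr (Or.inr (Or.inl ⟨hp2, h⟩)))))))))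
      · exact R.sz p S hS ho ⟨hp2, h⟩
    · by_cases hp3 : p = 3
      · exact lie (Or.inr (Or.inr (Or.inr (Or.inr (Or.inr (Or.inr (Or.inr (Or.inr (Or.inr (Or.inr
          ⟨hp3, h⟩))))))))))
      · exact R.ree p S hS ho ⟨hp3, h⟩
    · by_cases hp2 : p = 2
      · exact lie (Or.inr (Or.inr (Or.inr (Or.inr (Or.inr (Or.inr (Or.inr (Or.inr (Or.inr (Or.inl ⟨hp2, h⟩))))))))))
      · exact R.tf4 p S hS ho ⟨hp2, h⟩
    · exact R.tits p S hS ho h
  · exact R.spor p S hS ho h

/-! ### block theory -/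

/-- **Brauer-Feit with the centre**: height zero, or `|Z(D) : Z(D) ∩ Z(G)| ≤ p` -/
def BoxBF : Prop :=
  ∀ (p : ℕ) (M : Ideal AlgInt), IsPModular p M → ∀ (G : Type) [Group G] [Finite G] (B : Set (IrrCharacter G))
    (D : Subgroup G), IsPBlock M B → IsDefectGroup p M B D → ¬ IsMulCommutative D → ∀ χ ∈ B,
      (blockHeight p B (χ : G → ℂ) = 0 ∨ ¬ p ^ 2 ∣ (Subgroup.center G).relIndex (ZD D)) → Rob p D χ

/-- **values on the defect class** -/
def BoxVal : Prop :=
  ∀ (p : ℕ) (M : Ideal AlgInt), IsPModular p M → ∀ (G : Type) [Group G] [Finite G] (B : Set (IrrCharacter G))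
    (D : Subgroup G), IsPBlock M B → IsDefectGroup p M B D →
    ∃ y : G, ¬ p ∣ orderOf y ∧ Blocks.Basic.IsSylowCentralizer p y D ∧
      ∀ χ ∈ B, ∀ z ∈ ZD D, (χ : G → ℂ) (z * y) ≠ 0 ∧
        IsIntegral ℤ ((χ : G → ℂ) (z * y) / (p : ℂ) ^ blockHeight p B (χ : G → ℂ))

/-- **counting, full defect**: with `h = ν χ(1) > 0`, `k = ν |G| - h` and the number `n` of the conjugates of the
elements of `Z(D) Z(G)` outside `Z(G)` one has `p ^ (2 h) n / |G| + p / p ^ k ≤ 1` -/
def BoxCT : Prop :=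
  ∀ (p : ℕ) (M : Ideal AlgInt), IsPModular p M → ∀ (G : Type) [Group G] [Finite G] (B : Set (IrrCharacter G))
    (D : Subgroup G), IsPBlock M B → IsDefectGroup p M B D →
    (Nat.card D).factorization p = (Nat.card G).factorization p → ∀ χ ∈ B, ∀ h k : ℕ,
      (charDegree (χ : G → ℂ)).factorization p = h → h + k = (Nat.card G).factorization p → 0 < h →
      p ^ (2 * h) * Nat.card {g : G // ∃ z ∈ ZD D, z ∉ Subgroup.center G ∧ ∃ c ∈ Subgroup.center G, IsConj (z * c) g} *
        p ^ k + p * Nat.card G ≤ p ^ k * Nat.card G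

/-- **counting, `p = 3`**: `n` classes of elements of order at most `3` in `Z(D)` give `3 n ≤ 3 ^ (defect of χ)` -/
def BoxCnt3 : Prop :=
  ∀ (M : Ideal AlgInt), IsPModular 3 M → ∀ (G : Type) [Group G] [Finite G] (B : Set (IrrCharacter G))
    (D : Subgroup G), IsPBlock M B → IsDefectGroup 3 M B D → ∀ χ ∈ B, 0 < blockHeight 3 B (χ : G → ℂ) →
      ∀ s : Finset G, (∀ z ∈ s, z ∈ ZD D ∧ z ^ 3 = 1) → (∀ z ∈ s, ∀ z' ∈ s, IsConj z z' → z = z') →
        3 * s.card * 3 ^ (charDegree (χ : G → ℂ)).factorization 3 ≤ 3 ^ (Nat.card G).factorization 3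

/-- **one quasisimple group from the rows and the classification** -/
theorem Rows.one (R : Rows) (hBF : BoxBF)
    (cfsg : ∀ (S : Type) [Group S] [Finite S] [IsSimpleGroup S], IsKnownSimple' S) (p : ℕ) [Fact p.Prime] (ho : p ≠ 2)
    (km : BK.KMp.{0} p) {M : Ideal AlgInt} (hM : IsPModular p M) {K : Type} [Group K] [Finite K] (hK : IsQuasisimple K)
    (ih : ∀ (H : Type) [Group H] [Finite H], (Subgroup.center H).index < (Subgroup.center K).index → RCg p M H)
    (hc : IsCyclic (Subgroup.center K)) {B : Set (IrrCharacter K)} {D : Subgroup K} (hB : IsPBlock M B)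
    (hD : IsDefectGroup p M B D) (hA : ¬ IsMulCommutative D) {χ : IrrCharacter K} (hχ : χ ∈ B)
    (hf : ∀ z ∈ Subgroup.center K, (χ : K → ℂ) z = (χ : K → ℂ) 1 → z = 1) : Rob p D χ := by
  have := hK.2
  by_cases h : blockHeight p B (χ : K → ℂ) = 0 ∨ ¬ p ^ 2 ∣ (Subgroup.center K).relIndex (ZD D)
  · exact hBF p M hM K B D hB hD hA χ hχ h
  rw [not_or, not_not] at h
  refine R.known p (K ⧸ Subgroup.center K) (fun hab => ?_) ho (cfsg _) K (QuotientGroup.mk' _) M B D χ
    ⟨ho, hM, hB, hD, hχ, hA, Nat.pos_of_ne_zero h.1, ?_, hK, QuotientGroup.mk'_surjective _, QuotientGroup.ker_mk' _, hc, hf,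
      km, ih⟩
  · have h1 : commutator K ≤ Subgroup.center K := by
      rw [← QuotientGroup.ker_mk' (Subgroup.center K), commutator_def, Subgroup.commutator_le]
      intro a _ b _
      rw [MonoidHom.mem_ker, map_commutatorElement, commutatorElement_eq_one_iff_mul_comm]
      exact hab.is_comm.comm _ _
    rw [hK.1.commutator_eq_top] at h1
    obtain ⟨x, y, hxy⟩ := exists_pair_ne (K ⧸ Subgroup.center K)
    obtain ⟨a, rfl⟩ := QuotientGroup.mk_surjective x
    obtain ⟨b, rfl⟩ := QuotientGroup.mk_surjective y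
    exact hxy (QuotientGroup.eq.2 (h1 (Subgroup.mem_top _)))
  · rw [← Subgroup.relIndex_ker, QuotientGroup.ker_mk']
    exact h.2

end Cfsg.Agent.RC
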